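import Cfsg.Agent.Lib.Helper12.TCG.SuzQm22880.Rel0
import Cfsg.Agent.Lib.Helper12.TCG.SuzQm22880.Rel1
import Cfsg.Agent.Lib.Helper12.TCG.SuzQm22880.Rel2
import Cfsg.Agent.Lib.Helper12.TCG.SuzQm22880.Rel3
import Cfsg.Agent.Lib.Helper12.TCG.SuzQm22880.Rel4
import Cfsg.Agent.Lib.Helper12.TCG.SuzQm22880.Rel5
import Cfsg.Agent.Lib.Helper12.TCG.SuzQm22880.Rel6
import Cfsg.Agent.Lib.Helper12.TCG.SuzQm22880.Rel7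
import Cfsg.Agent.Lib.Helper12.TCG.SuzQm22880.Rel8
import Cfsg.Agent.Lib.Helper12.TCG.SuzQm22880.Rel9
import Cfsg.Agent.Lib.Helper12.TCG.SuzQm22880.Rel10
import Cfsg.Agent.Lib.Helper12.TCG.SuzQm22880.Rel11
import Cfsg.Agent.Lib.Helper12.TCG.SuzQm22880.Rel12
import Cfsg.Agent.Lib.Helper12.TCG.SuzQm22880.Rel13
import Cfsg.Agent.Lib.Helper12.TCG.SuzQm22880.Rel14
import Cfsg.Agent.Lib.Helper12.TCG.SuzQm22880.Rel15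
import Cfsg.Agent.Lib.Helper12.TCG.SuzQm22880.Rel16
import Cfsg.Agent.Lib.Helper12.TCG.SuzQm22880.Rel17
import Cfsg.Agent.Lib.Helper12.TCG.SuzQm22880.Rel18
import Cfsg.Agent.Lib.Helper12.TCG.SuzQm22880.Rel19
import Cfsg.Agent.Lib.Helper12.TCG.SuzQm22880.Rel20
import Cfsg.Agent.Lib.Helper12.TCG.SuzQm22880.Rel21
import Cfsg.Agent.Lib.Helper12.TCG.SuzQm22880.Rel22
import Cfsg.Agent.Lib.Helper12.TCG.SuzQm22880.Rel23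
import Cfsg.Agent.Lib.Helper12.SuzM.Pres5

/-! the permutation representation for SuzQm22880 (generated, helper12) -/

set_option autoImplicit false
set_option maxRecDepth 100000
set_option linter.unusedSimpArgs false
set_option Elab.async false

namespace Cfsg.Agent.Lib.Helper12.TCG.SuzQm22880

open Cfsg.Agent.Lib.Helper12.TC Cfsg.Agent.Lib.Helper12.TCG Cfsg.Agent.Lib.Helper12.SuzM.Pres5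

theorem htN : tN = cN := rfl

theorem hperm0 : permOneG 18364758479815910145 TT 0 tN = true :=
  permOneG_of_OK (permOK_step hperm0_1 rfl
    (permOK_step hperm0_0 rfl
    (permOK_start 18364758479815910145 TT 0 tN)))

theorem hperm1 : permOneG 18364758479815910145 TT 1 tN = true :=
  permOneG_of_OK (permOK_step hperm1_1 rfl
    (permOK_step hperm1_0 rfl
    (permOK_start 18364758479815910145 TT 1 tN)))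

theorem hperm2 : permOneG 18364758479815910145 TT 2 tN = true :=
  permOneG_of_OK (permOK_step hperm2_1 rfl
    (permOK_step hperm2_0 rfl
    (permOK_start 18364758479815910145 TT 2 tN)))

theorem hperm3 : permOneG 18364758479815910145 TT 3 tN = true :=
  permOneG_of_OK (permOK_step hperm3_1 rfl
    (permOK_step hperm3_0 rfl
    (permOK_start 18364758479815910145 TT 3 tN)))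

theorem hperm4 : permOneG 18364758479815910145 TT 4 tN = true :=
  permOneG_of_OK (permOK_step hperm4_1 rfl
    (permOK_step hperm4_0 rfl
    (permOK_start 18364758479815910145 TT 4 tN)))

theorem hperm5 : permOneG 18364758479815910145 TT 5 tN = true :=
  permOneG_of_OK (permOK_step hperm5_1 rfl
    (permOK_step hperm5_0 rfl
    (permOK_start 18364758479815910145 TT 5 tN)))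

theorem hperm6 : permOneG 18364758479815910145 TT 6 tN = true :=
  permOneG_of_OK (permOK_step hperm6_1 rfl
    (permOK_step hperm6_0 rfl
    (permOK_start 18364758479815910145 TT 6 tN)))

theorem hperm7 : permOneG 18364758479815910145 TT 7 tN = true :=
  permOneG_of_OK (permOK_step hperm7_1 rfl
    (permOK_step hperm7_0 rfl
    (permOK_start 18364758479815910145 TT 7 tN)))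

theorem hperm8 : permOneG 18364758479815910145 TT 8 tN = true :=
  permOneG_of_OK (permOK_step hperm8_1 rfl
    (permOK_step hperm8_0 rfl
    (permOK_start 18364758479815910145 TT 8 tN)))

theorem hperm9 : permOneG 18364758479815910145 TT 9 tN = true :=
  permOneG_of_OK (permOK_step hperm9_1 rfl
    (permOK_step hperm9_0 rfl
    (permOK_start 18364758479815910145 TT 9 tN)))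

theorem hperm : permG cIV TT 10 cN = true := by
  refine permG_of_ones (fun x hx => ?_)
  interval_cases x
  · exact hperm0
  · exact hperm1
  · exact hperm2
  · exact hperm3
  · exact hperm4
  · exact hperm5
  · exact hperm6
  · exact hperm7
  · exact hperm8
  · exact hperm9

/-- words as powers -/
def specs : List (List ℕ × ℕ) :=
  [([0], 7),
   ([2], 7),
   ([4], 7),
   ([6], 7),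
   ([8], 7),
   ([0, 0, 3, 0, 3, 0, 3, 1, 2, 0, 2, 1, 2, 1, 2, 1, 1, 3], 1),
   ([3, 0, 0, 3, 3, 0, 0, 3, 0, 2, 1, 1, 2, 2, 1, 1, 2, 1], 1),
   ([2, 1, 1, 2, 2, 1, 1, 2, 0, 3, 0, 0, 3, 3, 0, 0, 3, 1], 1),
   ([2, 0, 3, 0, 3, 1, 2, 2, 0, 3, 3, 0, 2, 1, 2, 1, 3, 1], 1),
   ([3, 1, 2, 1, 2, 1, 2, 2, 0, 3, 3, 0, 3, 0, 3, 0, 2, 1], 1),
   ([0, 2, 0, 0, 3, 1, 1, 1, 2, 0, 0, 0, 2, 1, 1, 3, 1, 3, 3], 1),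
   ([1, 2, 0, 0, 0, 2, 1, 1, 2, 0, 0, 3, 1, 1, 1, 3, 0, 3, 3], 1),
   ([0, 3, 1, 1, 3, 0, 3, 1, 2, 0, 2, 1, 2, 0, 0, 2, 1, 3, 3], 1),
   ([1, 3, 1, 1, 2, 0, 0, 0, 2, 1, 1, 1, 3, 0, 0, 2, 0, 3, 3], 1),
   ([0, 3, 1, 1, 1, 3, 0, 0, 2, 1, 1, 2, 0, 0, 0, 2, 1, 3, 3], 1),
   ([1, 2, 0, 0, 0, 3, 0, 0, 2, 1, 1, 2, 1, 1, 1, 3, 0, 3, 3], 1),
   ([2, 1, 3, 3, 1, 2, 1, 3, 0, 2, 0, 3, 0, 2, 2, 0, 3, 1, 1], 1),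
   ([3, 0, 2, 2, 2, 1, 2, 2, 0, 3, 3, 0, 3, 3, 3, 1, 2, 1, 1], 1),
   ([3, 1, 3, 3, 0, 2, 2, 2, 0, 3, 3, 3, 1, 2, 2, 0, 2, 1, 1], 1),
   ([1, 3, 0, 3, 1, 1, 3, 0, 2, 1, 2, 0, 0, 2, 1, 2, 0, 2, 2, 2], 1),
   ([1, 2, 2, 1, 1, 2, 0, 3, 0, 2, 1, 2, 1, 3, 0, 0, 3, 3, 0, 3], 1),
   ([2, 2, 2, 0, 3, 3, 1, 3, 0, 2, 0, 2, 2, 1, 3, 3, 3, 0, 0, 0], 1),
   ([3, 0, 2, 1, 1, 2, 2, 1, 3, 0, 2, 0, 3, 3, 0, 0, 3, 1, 2, 1], 1),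
   ([2, 1, 1, 2, 2, 1, 3, 0, 3, 0, 2, 1, 2, 0, 3, 3, 0, 0, 3, 1], 1),
   ([2, 2, 1, 1, 2, 0, 3, 0, 3, 0, 2, 1, 2, 1, 3, 0, 0, 3, 3, 1], 1),
   ([3, 1, 2, 2, 1, 1, 2, 0, 3, 0, 2, 1, 3, 0, 0, 3, 3, 0, 2, 1], 1),
   ([2, 2, 1, 1, 3, 3, 3, 3, 3, 0, 2, 2, 2, 2, 2, 0, 0, 3, 3, 1], 1),
   ([2, 0, 3, 3, 0, 0, 3, 1, 2, 0, 3, 0, 2, 1, 1, 2, 2, 1, 3, 1], 1),
   ([3, 1, 2, 1, 3, 3, 1, 2, 0, 3, 0, 2, 2, 0, 3, 0, 2, 0, 0, 0], 1),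
   ([2, 2, 1, 3, 3, 3, 1, 2, 0, 3, 0, 2, 2, 2, 0, 3, 3, 0, 0, 0], 1),
   ([3, 1, 3, 1, 3, 1, 3, 1, 4, 0, 2, 0, 2, 0, 2, 0, 2, 5], 1),
   ([1, 2, 0, 0, 5, 1, 5, 1, 4, 0, 4, 0, 4, 1, 1, 3, 0, 3], 1),
   ([1, 1, 2, 4, 0, 4, 0, 4, 1, 5, 1, 5, 3, 0, 0, 2, 2, 2], 1),
   ([0, 0, 4, 1, 4, 0, 2, 0, 3, 1, 5, 0, 5, 1, 1, 4, 4, 4], 1),
   ([1, 1, 2, 2, 1, 1, 2, 2, 4, 3, 3, 0, 0, 3, 3, 0, 0, 5], 1),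
   ([3, 1, 2, 1, 2, 1, 2, 2, 4, 3, 3, 0, 3, 0, 3, 0, 2, 5], 1),
   ([1, 4, 0, 4, 2, 2, 2, 2, 4, 3, 3, 3, 3, 5, 1, 5, 0, 4], 1),
   ([2, 0, 4, 1, 1, 1, 5, 2, 4, 0, 0, 0, 5, 1, 3, 1, 1, 1], 1),
   ([1, 1, 5, 1, 1, 4, 0, 5, 2, 4, 1, 5, 0, 0, 4, 0, 0, 5], 1),
   ([0, 4, 0, 4, 0, 2, 1, 1, 2, 0, 0, 3, 1, 5, 1, 5, 1, 5, 5], 1),
   ([3, 3, 4, 0, 5, 2, 2, 1, 2, 0, 3, 3, 4, 1, 5, 2, 2, 0, 0], 1),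
   ([0, 4, 0, 4, 0, 3, 0, 0, 2, 1, 1, 2, 1, 5, 1, 5, 1, 5, 5], 1),
   ([0, 2, 1, 5, 1, 5, 0, 0, 2, 1, 1, 4, 0, 4, 0, 3, 1, 5, 5], 1),
   ([0, 3, 4, 1, 2, 0, 3, 4, 1, 2, 0, 5, 2, 1, 3, 0, 5, 2, 1, 3], 1),
   ([4, 2, 1, 1, 2, 5, 0, 0, 0, 2, 1, 1, 1, 4, 3, 0, 0, 3, 5, 1], 1),
   ([0, 4, 1, 3, 4, 2, 0, 4, 0, 2, 1, 5, 1, 3, 5, 2, 0, 5, 1, 5], 1),
   ([1, 3, 4, 1, 3, 5, 0, 4, 0, 2, 1, 5, 1, 4, 2, 0, 5, 2, 0, 3], 1),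
   ([5, 2, 1, 3, 0, 5, 2, 1, 3, 0, 2, 0, 3, 4, 1, 2, 0, 3, 4, 1], 1),
   ([1, 2, 2, 4, 0, 3, 3, 1, 2, 0, 3, 0, 2, 2, 1, 5, 3, 3, 0, 2], 1),
   ([5, 2, 1, 3, 4, 3, 3, 1, 5, 0, 4, 0, 2, 2, 5, 2, 0, 3, 4, 0], 1),
   ([5, 1, 5, 1, 5, 1, 5, 1, 5, 0, 4, 0, 4, 0, 4, 0, 4, 0, 4, 1], 1),
   ([0, 4, 3, 0, 3, 1, 2, 0, 5, 0, 4, 1, 3, 0, 2, 1, 2, 5, 1, 3], 1),
   ([1, 1, 1, 4, 3, 0, 0, 3, 5, 0, 4, 2, 1, 1, 2, 5, 0, 0, 0, 3], 1),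
   ([4, 4, 0, 4, 7, 5, 1, 1, 4, 0, 0, 4, 6, 5, 1, 5, 5, 2], 1),
   ([0, 4, 7, 0, 5, 6, 1, 1, 6, 0, 0, 7, 4, 1, 6, 5, 1, 7], 1),
   ([0, 0, 3, 0, 3, 0, 3, 1, 6, 0, 2, 1, 2, 1, 2, 1, 1, 7], 1),
   ([7, 2, 5, 6, 3, 0, 3, 1, 2, 0, 2, 1, 2, 7, 4, 3, 6, 1], 1),
   ([0, 6, 1, 4, 7, 0, 5, 1, 4, 0, 4, 1, 6, 5, 0, 7, 1, 5], 1),
   ([2, 4, 0, 7, 2, 1, 6, 0, 2, 1, 7, 0, 3, 6, 1, 5, 3, 1], 1),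
   ([1, 1, 4, 7, 0, 5, 6, 0, 4, 1, 7, 4, 1, 6, 5, 0, 0, 5], 1),
   ([2, 4, 7, 0, 5, 6, 1, 3, 6, 2, 0, 7, 4, 1, 6, 5, 3, 7], 1),
   ([6, 2, 0, 2, 0, 7, 2, 2, 0, 3, 3, 6, 1, 3, 1, 3, 7, 3], 1),
   ([3, 0, 5, 6, 1, 4, 7, 2, 0, 3, 6, 5, 0, 7, 4, 1, 2, 1], 1),
   ([3, 0, 5, 6, 1, 4, 7, 2, 4, 3, 6, 5, 0, 7, 4, 1, 2, 5], 1),
   ([3, 5, 0, 7, 4, 1, 6, 2, 6, 3, 7, 0, 5, 6, 1, 4, 2, 7], 1),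
   ([3, 1, 4, 7, 0, 5, 6, 2, 0, 3, 7, 4, 1, 6, 5, 0, 2, 1], 1),
   ([3, 1, 4, 7, 0, 5, 6, 2, 4, 3, 7, 4, 1, 6, 5, 0, 2, 5], 1),
   ([3, 1, 4, 7, 0, 5, 6, 2, 6, 3, 7, 4, 1, 6, 5, 0, 2, 7], 1),
   ([4, 6, 5, 0, 7, 4, 1, 5, 6, 4, 0, 5, 6, 1, 4, 7, 5, 7], 1),
   ([4, 3, 0, 3, 0, 3, 0, 5, 6, 4, 1, 2, 1, 2, 1, 2, 5, 7], 1),
   ([4, 7, 4, 1, 6, 5, 0, 5, 0, 4, 1, 4, 7, 0, 5, 6, 5, 1], 1),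
   ([4, 7, 4, 1, 6, 5, 0, 5, 6, 4, 1, 4, 7, 0, 5, 6, 5, 7], 1),
   ([0, 6, 0, 2, 6, 4, 4, 1, 4, 0, 5, 5, 7, 3, 1, 7, 1, 2, 2], 1),
   ([6, 4, 1, 6, 4, 7, 1, 5, 6, 4, 0, 6, 5, 7, 0, 5, 7, 5, 5], 1),
   ([5, 0, 6, 2, 2, 4, 2, 5, 2, 4, 3, 5, 3, 3, 7, 1, 4, 3, 3], 1),
   ([2, 0, 5, 5, 6, 1, 3, 7, 0, 2, 1, 6, 2, 0, 7, 4, 4, 1, 3, 1], 1),
   ([2, 1, 6, 0, 7, 2, 1, 6, 0, 6, 1, 7, 0, 3, 6, 1, 7, 0, 3, 7], 1),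
   ([2, 4, 7, 2, 6, 2, 4, 7, 2, 6, 3, 6, 5, 3, 7, 3, 6, 5, 3, 7], 1),
   ([6, 5, 2, 0, 2, 2, 1, 6, 2, 4, 3, 7, 0, 3, 3, 1, 3, 4, 7, 0], 1),
   ([2, 2, 1, 7, 0, 3, 6, 1, 5, 2, 4, 0, 7, 2, 1, 6, 0, 3, 3, 1], 1),
   ([2, 1, 6, 2, 1, 1, 2, 4, 6, 0, 7, 5, 3, 0, 0, 3, 7, 0, 3, 5], 1),
   ([9, 0, 5, 8, 1, 4, 0, 9, 4, 1, 8, 5], 1),
   ([8, 1, 4, 9, 0, 4, 1, 8, 5, 0, 9, 5], 1),
   ([9, 4, 1, 8, 5, 0, 4, 9, 0, 5, 8, 1], 1),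
   ([0, 5, 8, 1, 4, 8, 5, 0, 9, 4, 1, 9], 1),
   ([8, 5, 0, 9, 4, 0, 5, 8, 1, 4, 9, 1], 1),
   ([6, 9, 6, 9, 6, 8, 7, 8, 7, 8, 7, 9], 1),
   ([8, 7, 8, 7, 8, 7, 4, 6, 9, 6, 9, 6, 9, 5], 1),
   ([5, 0, 7, 4, 1, 6, 8, 7, 0, 5, 6, 1, 4, 9], 1),
   ([4, 1, 8, 5, 0, 9, 6, 8, 1, 4, 9, 0, 5, 7], 1),
   ([9, 6, 9, 0, 5, 5, 1, 2, 0, 4, 4, 1, 8, 7, 8, 5, 5], 1),
   ([8, 7, 2, 1, 6, 9, 0, 3, 4, 2, 1, 8, 7, 0, 3, 6, 9, 5], 1),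
   ([0, 0, 3, 3, 0, 0, 3, 3, 8, 2, 2, 1, 1, 2, 2, 1, 1, 9], 1),
   ([7, 8, 2, 4, 9, 6, 5, 3, 0, 2, 4, 7, 8, 5, 3, 9, 6, 1], 1),
   ([7, 8, 2, 4, 9, 6, 5, 3, 4, 2, 4, 7, 8, 5, 3, 9, 6, 5], 1),
   ([7, 8, 2, 4, 9, 6, 5, 3, 8, 2, 4, 7, 8, 5, 3, 9, 6, 9], 1),
   ([5, 9, 6, 8, 8, 2, 4, 3, 8, 2, 5, 3, 9, 9, 7, 8, 4, 3], 1),
   ([2, 1, 6, 5, 0, 7, 4, 3, 8, 2, 5, 6, 1, 4, 7, 0, 3, 9], 1),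
   ([6, 9, 2, 5, 8, 7, 4, 3, 8, 2, 5, 6, 9, 4, 3, 8, 7, 9], 1),
   ([8, 7, 2, 5, 6, 9, 4, 3, 0, 2, 5, 8, 7, 4, 3, 6, 9, 1], 1),
   ([8, 7, 2, 5, 6, 9, 4, 3, 4, 2, 5, 8, 7, 4, 3, 6, 9, 5], 1),
   ([2, 0, 5, 6, 1, 4, 7, 3, 8, 2, 6, 5, 0, 7, 4, 1, 3, 9], 1),
   ([7, 8, 7, 2, 7, 8, 7, 3, 0, 2, 6, 9, 6, 3, 6, 9, 6, 3], 1),
   ([2, 8, 7, 8, 7, 8, 7, 3, 0, 2, 6, 9, 6, 9, 6, 9, 3, 1], 1),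
   ([2, 8, 7, 8, 7, 8, 7, 3, 4, 2, 6, 9, 6, 9, 6, 9, 3, 5], 1),
   ([2, 8, 7, 8, 7, 8, 7, 3, 6, 2, 6, 9, 6, 9, 6, 9, 3, 7], 1),
   ([0, 1], 1),
   ([1, 0], 1),
   ([2, 3], 1),
   ([3, 2], 1),
   ([4, 5], 1),
   ([5, 4], 1),
   ([6, 7], 1),
   ([7, 6], 1),
   ([8, 9], 1),
   ([9, 8], 1),
   ([], 1)]

theorem hspecs : baseL = specs.map (fun s => wpow s.1 s.2) := by
  decide +kernel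

theorem hfix5 : ∀ i < tN, (Fn.applyW TT (([0, 0, 3, 0, 3, 0, 3, 1, 2, 0, 2, 1, 2, 1, 2, 1, 1, 3] : List ℕ), 1).1)^[(([0, 0, 3, 0, 3, 0, 3, 1, 2, 0, 2, 1, 2, 1, 2, 1, 1, 3] : List ℕ), 1).2] i = i :=
  Fn.fix_of_rangeOK (Fn.rangeOK_step hm5_5 rfl
    (Fn.rangeOK_step hm5_4 rfl
    (Fn.rangeOK_step hm5_3 rfl
    (Fn.rangeOK_step hm5_2 rfl
    (Fn.rangeOK_step hm5_1 rfl
    (Fn.rangeOK_step hm5_0 rfl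
    (Fn.rangeOK_start TT [0, 0, 3, 0, 3, 0, 3, 1, 2, 0, 2, 1, 2, 1, 2, 1, 1, 3] 1 tN)))))))

theorem hfix6 : ∀ i < tN, (Fn.applyW TT (([3, 0, 0, 3, 3, 0, 0, 3, 0, 2, 1, 1, 2, 2, 1, 1, 2, 1] : List ℕ), 1).1)^[(([3, 0, 0, 3, 3, 0, 0, 3, 0, 2, 1, 1, 2, 2, 1, 1, 2, 1] : List ℕ), 1).2] i = i :=
  Fn.fix_of_rangeOK (Fn.rangeOK_step hm6_5 rfl
    (Fn.rangeOK_step hm6_4 rfl
    (Fn.rangeOK_step hm6_3 rfl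
    (Fn.rangeOK_step hm6_2 rfl
    (Fn.rangeOK_step hm6_1 rfl
    (Fn.rangeOK_step hm6_0 rfl
    (Fn.rangeOK_start TT [3, 0, 0, 3, 3, 0, 0, 3, 0, 2, 1, 1, 2, 2, 1, 1, 2, 1] 1 tN)))))))

theorem hfix7 : ∀ i < tN, (Fn.applyW TT (([2, 1, 1, 2, 2, 1, 1, 2, 0, 3, 0, 0, 3, 3, 0, 0, 3, 1] : List ℕ), 1).1)^[(([2, 1, 1, 2, 2, 1, 1, 2, 0, 3, 0, 0, 3, 3, 0, 0, 3, 1] : List ℕ), 1).2] i = i :=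
  Fn.fix_of_rangeOK (Fn.rangeOK_step hm7_5 rfl
    (Fn.rangeOK_step hm7_4 rfl
    (Fn.rangeOK_step hm7_3 rfl
    (Fn.rangeOK_step hm7_2 rfl
    (Fn.rangeOK_step hm7_1 rfl
    (Fn.rangeOK_step hm7_0 rfl
    (Fn.rangeOK_start TT [2, 1, 1, 2, 2, 1, 1, 2, 0, 3, 0, 0, 3, 3, 0, 0, 3, 1] 1 tN)))))))

theorem hfix8 : ∀ i < tN, (Fn.applyW TT (([2, 0, 3, 0, 3, 1, 2, 2, 0, 3, 3, 0, 2, 1, 2, 1, 3, 1] : List ℕ), 1).1)^[(([2, 0, 3, 0, 3, 1, 2, 2, 0, 3, 3, 0, 2, 1, 2, 1, 3, 1] : List ℕ), 1).2] i = i :=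
  Fn.fix_of_rangeOK (Fn.rangeOK_step hm8_5 rfl
    (Fn.rangeOK_step hm8_4 rfl
    (Fn.rangeOK_step hm8_3 rfl
    (Fn.rangeOK_step hm8_2 rfl
    (Fn.rangeOK_step hm8_1 rfl
    (Fn.rangeOK_step hm8_0 rfl
    (Fn.rangeOK_start TT [2, 0, 3, 0, 3, 1, 2, 2, 0, 3, 3, 0, 2, 1, 2, 1, 3, 1] 1 tN)))))))

theorem hfix9 : ∀ i < tN, (Fn.applyW TT (([3, 1, 2, 1, 2, 1, 2, 2, 0, 3, 3, 0, 3, 0, 3, 0, 2, 1] : List ℕ), 1).1)^[(([3, 1, 2, 1, 2, 1, 2, 2, 0, 3, 3, 0, 3, 0, 3, 0, 2, 1] : List ℕ), 1).2] i = i :=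
  Fn.fix_of_rangeOK (Fn.rangeOK_step hm9_5 rfl
    (Fn.rangeOK_step hm9_4 rfl
    (Fn.rangeOK_step hm9_3 rfl
    (Fn.rangeOK_step hm9_2 rfl
    (Fn.rangeOK_step hm9_1 rfl
    (Fn.rangeOK_step hm9_0 rfl
    (Fn.rangeOK_start TT [3, 1, 2, 1, 2, 1, 2, 2, 0, 3, 3, 0, 3, 0, 3, 0, 2, 1] 1 tN)))))))

theorem hfix10 : ∀ i < tN, (Fn.applyW TT (([0, 2, 0, 0, 3, 1, 1, 1, 2, 0, 0, 0, 2, 1, 1, 3, 1, 3, 3] : List ℕ), 1).1)^[(([0, 2, 0, 0, 3, 1, 1, 1, 2, 0, 0, 0, 2, 1, 1, 3, 1, 3, 3] : List ℕ), 1).2] i = i :=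
  Fn.fix_of_rangeOK (Fn.rangeOK_step hm10_5 rfl
    (Fn.rangeOK_step hm10_4 rfl
    (Fn.rangeOK_step hm10_3 rfl
    (Fn.rangeOK_step hm10_2 rfl
    (Fn.rangeOK_step hm10_1 rfl
    (Fn.rangeOK_step hm10_0 rfl
    (Fn.rangeOK_start TT [0, 2, 0, 0, 3, 1, 1, 1, 2, 0, 0, 0, 2, 1, 1, 3, 1, 3, 3] 1 tN)))))))

theorem hfix11 : ∀ i < tN, (Fn.applyW TT (([1, 2, 0, 0, 0, 2, 1, 1, 2, 0, 0, 3, 1, 1, 1, 3, 0, 3, 3] : List ℕ), 1).1)^[(([1, 2, 0, 0, 0, 2, 1, 1, 2, 0, 0, 3, 1, 1, 1, 3, 0, 3, 3] : List ℕ), 1).2] i = i :=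
  Fn.fix_of_rangeOK (Fn.rangeOK_step hm11_5 rfl
    (Fn.rangeOK_step hm11_4 rfl
    (Fn.rangeOK_step hm11_3 rfl
    (Fn.rangeOK_step hm11_2 rfl
    (Fn.rangeOK_step hm11_1 rfl
    (Fn.rangeOK_step hm11_0 rfl
    (Fn.rangeOK_start TT [1, 2, 0, 0, 0, 2, 1, 1, 2, 0, 0, 3, 1, 1, 1, 3, 0, 3, 3] 1 tN)))))))

theorem hfix12 : ∀ i < tN, (Fn.applyW TT (([0, 3, 1, 1, 3, 0, 3, 1, 2, 0, 2, 1, 2, 0, 0, 2, 1, 3, 3] : List ℕ), 1).1)^[(([0, 3, 1, 1, 3, 0, 3, 1, 2, 0, 2, 1, 2, 0, 0, 2, 1, 3, 3] : List ℕ), 1).2] i = i :=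
  Fn.fix_of_rangeOK (Fn.rangeOK_step hm12_5 rfl
    (Fn.rangeOK_step hm12_4 rfl
    (Fn.rangeOK_step hm12_3 rfl
    (Fn.rangeOK_step hm12_2 rfl
    (Fn.rangeOK_step hm12_1 rfl
    (Fn.rangeOK_step hm12_0 rfl
    (Fn.rangeOK_start TT [0, 3, 1, 1, 3, 0, 3, 1, 2, 0, 2, 1, 2, 0, 0, 2, 1, 3, 3] 1 tN)))))))

theorem hfix13 : ∀ i < tN, (Fn.applyW TT (([1, 3, 1, 1, 2, 0, 0, 0, 2, 1, 1, 1, 3, 0, 0, 2, 0, 3, 3] : List ℕ), 1).1)^[(([1, 3, 1, 1, 2, 0, 0, 0, 2, 1, 1, 1, 3, 0, 0, 2, 0, 3, 3] : List ℕ), 1).2] i = i :=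
  Fn.fix_of_rangeOK (Fn.rangeOK_step hm13_5 rfl
    (Fn.rangeOK_step hm13_4 rfl
    (Fn.rangeOK_step hm13_3 rfl
    (Fn.rangeOK_step hm13_2 rfl
    (Fn.rangeOK_step hm13_1 rfl
    (Fn.rangeOK_step hm13_0 rfl
    (Fn.rangeOK_start TT [1, 3, 1, 1, 2, 0, 0, 0, 2, 1, 1, 1, 3, 0, 0, 2, 0, 3, 3] 1 tN)))))))

theorem hfix14 : ∀ i < tN, (Fn.applyW TT (([0, 3, 1, 1, 1, 3, 0, 0, 2, 1, 1, 2, 0, 0, 0, 2, 1, 3, 3] : List ℕ), 1).1)^[(([0, 3, 1, 1, 1, 3, 0, 0, 2, 1, 1, 2, 0, 0, 0, 2, 1, 3, 3] : List ℕ), 1).2] i = i :=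
  Fn.fix_of_rangeOK (Fn.rangeOK_step hm14_5 rfl
    (Fn.rangeOK_step hm14_4 rfl
    (Fn.rangeOK_step hm14_3 rfl
    (Fn.rangeOK_step hm14_2 rfl
    (Fn.rangeOK_step hm14_1 rfl
    (Fn.rangeOK_step hm14_0 rfl
    (Fn.rangeOK_start TT [0, 3, 1, 1, 1, 3, 0, 0, 2, 1, 1, 2, 0, 0, 0, 2, 1, 3, 3] 1 tN)))))))

theorem hfix15 : ∀ i < tN, (Fn.applyW TT (([1, 2, 0, 0, 0, 3, 0, 0, 2, 1, 1, 2, 1, 1, 1, 3, 0, 3, 3] : List ℕ), 1).1)^[(([1, 2, 0, 0, 0, 3, 0, 0, 2, 1, 1, 2, 1, 1, 1, 3, 0, 3, 3] : List ℕ), 1).2] i = i :=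
  Fn.fix_of_rangeOK (Fn.rangeOK_step hm15_5 rfl
    (Fn.rangeOK_step hm15_4 rfl
    (Fn.rangeOK_step hm15_3 rfl
    (Fn.rangeOK_step hm15_2 rfl
    (Fn.rangeOK_step hm15_1 rfl
    (Fn.rangeOK_step hm15_0 rfl
    (Fn.rangeOK_start TT [1, 2, 0, 0, 0, 3, 0, 0, 2, 1, 1, 2, 1, 1, 1, 3, 0, 3, 3] 1 tN)))))))

theorem hfix16 : ∀ i < tN, (Fn.applyW TT (([2, 1, 3, 3, 1, 2, 1, 3, 0, 2, 0, 3, 0, 2, 2, 0, 3, 1, 1] : List ℕ), 1).1)^[(([2, 1, 3, 3, 1, 2, 1, 3, 0, 2, 0, 3, 0, 2, 2, 0, 3, 1, 1] : List ℕ), 1).2] i = i :=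
  Fn.fix_of_rangeOK (Fn.rangeOK_step hm16_5 rfl
    (Fn.rangeOK_step hm16_4 rfl
    (Fn.rangeOK_step hm16_3 rfl
    (Fn.rangeOK_step hm16_2 rfl
    (Fn.rangeOK_step hm16_1 rfl
    (Fn.rangeOK_step hm16_0 rfl
    (Fn.rangeOK_start TT [2, 1, 3, 3, 1, 2, 1, 3, 0, 2, 0, 3, 0, 2, 2, 0, 3, 1, 1] 1 tN)))))))

theorem hfix17 : ∀ i < tN, (Fn.applyW TT (([3, 0, 2, 2, 2, 1, 2, 2, 0, 3, 3, 0, 3, 3, 3, 1, 2, 1, 1] : List ℕ), 1).1)^[(([3, 0, 2, 2, 2, 1, 2, 2, 0, 3, 3, 0, 3, 3, 3, 1, 2, 1, 1] : List ℕ), 1).2] i = i :=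
  Fn.fix_of_rangeOK (Fn.rangeOK_step hm17_5 rfl
    (Fn.rangeOK_step hm17_4 rfl
    (Fn.rangeOK_step hm17_3 rfl
    (Fn.rangeOK_step hm17_2 rfl
    (Fn.rangeOK_step hm17_1 rfl
    (Fn.rangeOK_step hm17_0 rfl
    (Fn.rangeOK_start TT [3, 0, 2, 2, 2, 1, 2, 2, 0, 3, 3, 0, 3, 3, 3, 1, 2, 1, 1] 1 tN)))))))

theorem hfix18 : ∀ i < tN, (Fn.applyW TT (([3, 1, 3, 3, 0, 2, 2, 2, 0, 3, 3, 3, 1, 2, 2, 0, 2, 1, 1] : List ℕ), 1).1)^[(([3, 1, 3, 3, 0, 2, 2, 2, 0, 3, 3, 3, 1, 2, 2, 0, 2, 1, 1] : List ℕ), 1).2] i = i :=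
  Fn.fix_of_rangeOK (Fn.rangeOK_step hm18_5 rfl
    (Fn.rangeOK_step hm18_4 rfl
    (Fn.rangeOK_step hm18_3 rfl
    (Fn.rangeOK_step hm18_2 rfl
    (Fn.rangeOK_step hm18_1 rfl
    (Fn.rangeOK_step hm18_0 rfl
    (Fn.rangeOK_start TT [3, 1, 3, 3, 0, 2, 2, 2, 0, 3, 3, 3, 1, 2, 2, 0, 2, 1, 1] 1 tN)))))))

theorem hfix19 : ∀ i < tN, (Fn.applyW TT (([1, 3, 0, 3, 1, 1, 3, 0, 2, 1, 2, 0, 0, 2, 1, 2, 0, 2, 2, 2] : List ℕ), 1).1)^[(([1, 3, 0, 3, 1, 1, 3, 0, 2, 1, 2, 0, 0, 2, 1, 2, 0, 2, 2, 2] : List ℕ), 1).2] i = i :=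
  Fn.fix_of_rangeOK (Fn.rangeOK_step hm19_5 rfl
    (Fn.rangeOK_step hm19_4 rfl
    (Fn.rangeOK_step hm19_3 rfl
    (Fn.rangeOK_step hm19_2 rfl
    (Fn.rangeOK_step hm19_1 rfl
    (Fn.rangeOK_step hm19_0 rfl
    (Fn.rangeOK_start TT [1, 3, 0, 3, 1, 1, 3, 0, 2, 1, 2, 0, 0, 2, 1, 2, 0, 2, 2, 2] 1 tN)))))))

theorem hfix20 : ∀ i < tN, (Fn.applyW TT (([1, 2, 2, 1, 1, 2, 0, 3, 0, 2, 1, 2, 1, 3, 0, 0, 3, 3, 0, 3] : List ℕ), 1).1)^[(([1, 2, 2, 1, 1, 2, 0, 3, 0, 2, 1, 2, 1, 3, 0, 0, 3, 3, 0, 3] : List ℕ), 1).2] i = i :=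
  Fn.fix_of_rangeOK (Fn.rangeOK_step hm20_5 rfl
    (Fn.rangeOK_step hm20_4 rfl
    (Fn.rangeOK_step hm20_3 rfl
    (Fn.rangeOK_step hm20_2 rfl
    (Fn.rangeOK_step hm20_1 rfl
    (Fn.rangeOK_step hm20_0 rfl
    (Fn.rangeOK_start TT [1, 2, 2, 1, 1, 2, 0, 3, 0, 2, 1, 2, 1, 3, 0, 0, 3, 3, 0, 3] 1 tN)))))))

theorem hfix21 : ∀ i < tN, (Fn.applyW TT (([2, 2, 2, 0, 3, 3, 1, 3, 0, 2, 0, 2, 2, 1, 3, 3, 3, 0, 0, 0] : List ℕ), 1).1)^[(([2, 2, 2, 0, 3, 3, 1, 3, 0, 2, 0, 2, 2, 1, 3, 3, 3, 0, 0, 0] : List ℕ), 1).2] i = i :=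
  Fn.fix_of_rangeOK (Fn.rangeOK_step hm21_5 rfl
    (Fn.rangeOK_step hm21_4 rfl
    (Fn.rangeOK_step hm21_3 rfl
    (Fn.rangeOK_step hm21_2 rfl
    (Fn.rangeOK_step hm21_1 rfl
    (Fn.rangeOK_step hm21_0 rfl
    (Fn.rangeOK_start TT [2, 2, 2, 0, 3, 3, 1, 3, 0, 2, 0, 2, 2, 1, 3, 3, 3, 0, 0, 0] 1 tN)))))))

theorem hfix22 : ∀ i < tN, (Fn.applyW TT (([3, 0, 2, 1, 1, 2, 2, 1, 3, 0, 2, 0, 3, 3, 0, 0, 3, 1, 2, 1] : List ℕ), 1).1)^[(([3, 0, 2, 1, 1, 2, 2, 1, 3, 0, 2, 0, 3, 3, 0, 0, 3, 1, 2, 1] : List ℕ), 1).2] i = i :=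
  Fn.fix_of_rangeOK (Fn.rangeOK_step hm22_5 rfl
    (Fn.rangeOK_step hm22_4 rfl
    (Fn.rangeOK_step hm22_3 rfl
    (Fn.rangeOK_step hm22_2 rfl
    (Fn.rangeOK_step hm22_1 rfl
    (Fn.rangeOK_step hm22_0 rfl
    (Fn.rangeOK_start TT [3, 0, 2, 1, 1, 2, 2, 1, 3, 0, 2, 0, 3, 3, 0, 0, 3, 1, 2, 1] 1 tN)))))))

theorem hfix23 : ∀ i < tN, (Fn.applyW TT (([2, 1, 1, 2, 2, 1, 3, 0, 3, 0, 2, 1, 2, 0, 3, 3, 0, 0, 3, 1] : List ℕ), 1).1)^[(([2, 1, 1, 2, 2, 1, 3, 0, 3, 0, 2, 1, 2, 0, 3, 3, 0, 0, 3, 1] : List ℕ), 1).2] i = i :=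
  Fn.fix_of_rangeOK (Fn.rangeOK_step hm23_5 rfl
    (Fn.rangeOK_step hm23_4 rfl
    (Fn.rangeOK_step hm23_3 rfl
    (Fn.rangeOK_step hm23_2 rfl
    (Fn.rangeOK_step hm23_1 rfl
    (Fn.rangeOK_step hm23_0 rfl
    (Fn.rangeOK_start TT [2, 1, 1, 2, 2, 1, 3, 0, 3, 0, 2, 1, 2, 0, 3, 3, 0, 0, 3, 1] 1 tN)))))))

theorem hfix24 : ∀ i < tN, (Fn.applyW TT (([2, 2, 1, 1, 2, 0, 3, 0, 3, 0, 2, 1, 2, 1, 3, 0, 0, 3, 3, 1] : List ℕ), 1).1)^[(([2, 2, 1, 1, 2, 0, 3, 0, 3, 0, 2, 1, 2, 1, 3, 0, 0, 3, 3, 1] : List ℕ), 1).2] i = i :=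
  Fn.fix_of_rangeOK (Fn.rangeOK_step hm24_5 rfl
    (Fn.rangeOK_step hm24_4 rfl
    (Fn.rangeOK_step hm24_3 rfl
    (Fn.rangeOK_step hm24_2 rfl
    (Fn.rangeOK_step hm24_1 rfl
    (Fn.rangeOK_step hm24_0 rfl
    (Fn.rangeOK_start TT [2, 2, 1, 1, 2, 0, 3, 0, 3, 0, 2, 1, 2, 1, 3, 0, 0, 3, 3, 1] 1 tN)))))))

theorem hfix25 : ∀ i < tN, (Fn.applyW TT (([3, 1, 2, 2, 1, 1, 2, 0, 3, 0, 2, 1, 3, 0, 0, 3, 3, 0, 2, 1] : List ℕ), 1).1)^[(([3, 1, 2, 2, 1, 1, 2, 0, 3, 0, 2, 1, 3, 0, 0, 3, 3, 0, 2, 1] : List ℕ), 1).2] i = i :=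
  Fn.fix_of_rangeOK (Fn.rangeOK_step hm25_5 rfl
    (Fn.rangeOK_step hm25_4 rfl
    (Fn.rangeOK_step hm25_3 rfl
    (Fn.rangeOK_step hm25_2 rfl
    (Fn.rangeOK_step hm25_1 rfl
    (Fn.rangeOK_step hm25_0 rfl
    (Fn.rangeOK_start TT [3, 1, 2, 2, 1, 1, 2, 0, 3, 0, 2, 1, 3, 0, 0, 3, 3, 0, 2, 1] 1 tN)))))))

theorem hfix26 : ∀ i < tN, (Fn.applyW TT (([2, 2, 1, 1, 3, 3, 3, 3, 3, 0, 2, 2, 2, 2, 2, 0, 0, 3, 3, 1] : List ℕ), 1).1)^[(([2, 2, 1, 1, 3, 3, 3, 3, 3, 0, 2, 2, 2, 2, 2, 0, 0, 3, 3, 1] : List ℕ), 1).2] i = i :=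
  Fn.fix_of_rangeOK (Fn.rangeOK_step hm26_5 rfl
    (Fn.rangeOK_step hm26_4 rfl
    (Fn.rangeOK_step hm26_3 rfl
    (Fn.rangeOK_step hm26_2 rfl
    (Fn.rangeOK_step hm26_1 rfl
    (Fn.rangeOK_step hm26_0 rfl
    (Fn.rangeOK_start TT [2, 2, 1, 1, 3, 3, 3, 3, 3, 0, 2, 2, 2, 2, 2, 0, 0, 3, 3, 1] 1 tN)))))))

theorem hfix27 : ∀ i < tN, (Fn.applyW TT (([2, 0, 3, 3, 0, 0, 3, 1, 2, 0, 3, 0, 2, 1, 1, 2, 2, 1, 3, 1] : List ℕ), 1).1)^[(([2, 0, 3, 3, 0, 0, 3, 1, 2, 0, 3, 0, 2, 1, 1, 2, 2, 1, 3, 1] : List ℕ), 1).2] i = i :=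
  Fn.fix_of_rangeOK (Fn.rangeOK_step hm27_5 rfl
    (Fn.rangeOK_step hm27_4 rfl
    (Fn.rangeOK_step hm27_3 rfl
    (Fn.rangeOK_step hm27_2 rfl
    (Fn.rangeOK_step hm27_1 rfl
    (Fn.rangeOK_step hm27_0 rfl
    (Fn.rangeOK_start TT [2, 0, 3, 3, 0, 0, 3, 1, 2, 0, 3, 0, 2, 1, 1, 2, 2, 1, 3, 1] 1 tN)))))))

theorem hfix28 : ∀ i < tN, (Fn.applyW TT (([3, 1, 2, 1, 3, 3, 1, 2, 0, 3, 0, 2, 2, 0, 3, 0, 2, 0, 0, 0] : List ℕ), 1).1)^[(([3, 1, 2, 1, 3, 3, 1, 2, 0, 3, 0, 2, 2, 0, 3, 0, 2, 0, 0, 0] : List ℕ), 1).2] i = i :=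
  Fn.fix_of_rangeOK (Fn.rangeOK_step hm28_5 rfl
    (Fn.rangeOK_step hm28_4 rfl
    (Fn.rangeOK_step hm28_3 rfl
    (Fn.rangeOK_step hm28_2 rfl
    (Fn.rangeOK_step hm28_1 rfl
    (Fn.rangeOK_step hm28_0 rfl
    (Fn.rangeOK_start TT [3, 1, 2, 1, 3, 3, 1, 2, 0, 3, 0, 2, 2, 0, 3, 0, 2, 0, 0, 0] 1 tN)))))))

theorem hfix29 : ∀ i < tN, (Fn.applyW TT (([2, 2, 1, 3, 3, 3, 1, 2, 0, 3, 0, 2, 2, 2, 0, 3, 3, 0, 0, 0] : List ℕ), 1).1)^[(([2, 2, 1, 3, 3, 3, 1, 2, 0, 3, 0, 2, 2, 2, 0, 3, 3, 0, 0, 0] : List ℕ), 1).2] i = i :=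
  Fn.fix_of_rangeOK (Fn.rangeOK_step hm29_5 rfl
    (Fn.rangeOK_step hm29_4 rfl
    (Fn.rangeOK_step hm29_3 rfl
    (Fn.rangeOK_step hm29_2 rfl
    (Fn.rangeOK_step hm29_1 rfl
    (Fn.rangeOK_step hm29_0 rfl
    (Fn.rangeOK_start TT [2, 2, 1, 3, 3, 3, 1, 2, 0, 3, 0, 2, 2, 2, 0, 3, 3, 0, 0, 0] 1 tN)))))))

theorem hfix30 : ∀ i < tN, (Fn.applyW TT (([3, 1, 3, 1, 3, 1, 3, 1, 4, 0, 2, 0, 2, 0, 2, 0, 2, 5] : List ℕ), 1).1)^[(([3, 1, 3, 1, 3, 1, 3, 1, 4, 0, 2, 0, 2, 0, 2, 0, 2, 5] : List ℕ), 1).2] i = i :=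
  Fn.fix_of_rangeOK (Fn.rangeOK_step hm30_5 rfl
    (Fn.rangeOK_step hm30_4 rfl
    (Fn.rangeOK_step hm30_3 rfl
    (Fn.rangeOK_step hm30_2 rfl
    (Fn.rangeOK_step hm30_1 rfl
    (Fn.rangeOK_step hm30_0 rfl
    (Fn.rangeOK_start TT [3, 1, 3, 1, 3, 1, 3, 1, 4, 0, 2, 0, 2, 0, 2, 0, 2, 5] 1 tN)))))))

theorem hfix31 : ∀ i < tN, (Fn.applyW TT (([1, 2, 0, 0, 5, 1, 5, 1, 4, 0, 4, 0, 4, 1, 1, 3, 0, 3] : List ℕ), 1).1)^[(([1, 2, 0, 0, 5, 1, 5, 1, 4, 0, 4, 0, 4, 1, 1, 3, 0, 3] : List ℕ), 1).2] i = i :=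
  Fn.fix_of_rangeOK (Fn.rangeOK_step hm31_5 rfl
    (Fn.rangeOK_step hm31_4 rfl
    (Fn.rangeOK_step hm31_3 rfl
    (Fn.rangeOK_step hm31_2 rfl
    (Fn.rangeOK_step hm31_1 rfl
    (Fn.rangeOK_step hm31_0 rfl
    (Fn.rangeOK_start TT [1, 2, 0, 0, 5, 1, 5, 1, 4, 0, 4, 0, 4, 1, 1, 3, 0, 3] 1 tN)))))))

theorem hfix32 : ∀ i < tN, (Fn.applyW TT (([1, 1, 2, 4, 0, 4, 0, 4, 1, 5, 1, 5, 3, 0, 0, 2, 2, 2] : List ℕ), 1).1)^[(([1, 1, 2, 4, 0, 4, 0, 4, 1, 5, 1, 5, 3, 0, 0, 2, 2, 2] : List ℕ), 1).2] i = i :=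
  Fn.fix_of_rangeOK (Fn.rangeOK_step hm32_5 rfl
    (Fn.rangeOK_step hm32_4 rfl
    (Fn.rangeOK_step hm32_3 rfl
    (Fn.rangeOK_step hm32_2 rfl
    (Fn.rangeOK_step hm32_1 rfl
    (Fn.rangeOK_step hm32_0 rfl
    (Fn.rangeOK_start TT [1, 1, 2, 4, 0, 4, 0, 4, 1, 5, 1, 5, 3, 0, 0, 2, 2, 2] 1 tN)))))))

theorem hfix33 : ∀ i < tN, (Fn.applyW TT (([0, 0, 4, 1, 4, 0, 2, 0, 3, 1, 5, 0, 5, 1, 1, 4, 4, 4] : List ℕ), 1).1)^[(([0, 0, 4, 1, 4, 0, 2, 0, 3, 1, 5, 0, 5, 1, 1, 4, 4, 4] : List ℕ), 1).2] i = i :=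
  Fn.fix_of_rangeOK (Fn.rangeOK_step hm33_5 rfl
    (Fn.rangeOK_step hm33_4 rfl
    (Fn.rangeOK_step hm33_3 rfl
    (Fn.rangeOK_step hm33_2 rfl
    (Fn.rangeOK_step hm33_1 rfl
    (Fn.rangeOK_step hm33_0 rfl
    (Fn.rangeOK_start TT [0, 0, 4, 1, 4, 0, 2, 0, 3, 1, 5, 0, 5, 1, 1, 4, 4, 4] 1 tN)))))))

theorem hfix34 : ∀ i < tN, (Fn.applyW TT (([1, 1, 2, 2, 1, 1, 2, 2, 4, 3, 3, 0, 0, 3, 3, 0, 0, 5] : List ℕ), 1).1)^[(([1, 1, 2, 2, 1, 1, 2, 2, 4, 3, 3, 0, 0, 3, 3, 0, 0, 5] : List ℕ), 1).2] i = i :=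
  Fn.fix_of_rangeOK (Fn.rangeOK_step hm34_5 rfl
    (Fn.rangeOK_step hm34_4 rfl
    (Fn.rangeOK_step hm34_3 rfl
    (Fn.rangeOK_step hm34_2 rfl
    (Fn.rangeOK_step hm34_1 rfl
    (Fn.rangeOK_step hm34_0 rfl
    (Fn.rangeOK_start TT [1, 1, 2, 2, 1, 1, 2, 2, 4, 3, 3, 0, 0, 3, 3, 0, 0, 5] 1 tN)))))))

theorem hfix35 : ∀ i < tN, (Fn.applyW TT (([3, 1, 2, 1, 2, 1, 2, 2, 4, 3, 3, 0, 3, 0, 3, 0, 2, 5] : List ℕ), 1).1)^[(([3, 1, 2, 1, 2, 1, 2, 2, 4, 3, 3, 0, 3, 0, 3, 0, 2, 5] : List ℕ), 1).2] i = i :=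
  Fn.fix_of_rangeOK (Fn.rangeOK_step hm35_5 rfl
    (Fn.rangeOK_step hm35_4 rfl
    (Fn.rangeOK_step hm35_3 rfl
    (Fn.rangeOK_step hm35_2 rfl
    (Fn.rangeOK_step hm35_1 rfl
    (Fn.rangeOK_step hm35_0 rfl
    (Fn.rangeOK_start TT [3, 1, 2, 1, 2, 1, 2, 2, 4, 3, 3, 0, 3, 0, 3, 0, 2, 5] 1 tN)))))))

theorem hfix36 : ∀ i < tN, (Fn.applyW TT (([1, 4, 0, 4, 2, 2, 2, 2, 4, 3, 3, 3, 3, 5, 1, 5, 0, 4] : List ℕ), 1).1)^[(([1, 4, 0, 4, 2, 2, 2, 2, 4, 3, 3, 3, 3, 5, 1, 5, 0, 4] : List ℕ), 1).2] i = i :=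
  Fn.fix_of_rangeOK (Fn.rangeOK_step hm36_5 rfl
    (Fn.rangeOK_step hm36_4 rfl
    (Fn.rangeOK_step hm36_3 rfl
    (Fn.rangeOK_step hm36_2 rfl
    (Fn.rangeOK_step hm36_1 rfl
    (Fn.rangeOK_step hm36_0 rfl
    (Fn.rangeOK_start TT [1, 4, 0, 4, 2, 2, 2, 2, 4, 3, 3, 3, 3, 5, 1, 5, 0, 4] 1 tN)))))))

theorem hfix37 : ∀ i < tN, (Fn.applyW TT (([2, 0, 4, 1, 1, 1, 5, 2, 4, 0, 0, 0, 5, 1, 3, 1, 1, 1] : List ℕ), 1).1)^[(([2, 0, 4, 1, 1, 1, 5, 2, 4, 0, 0, 0, 5, 1, 3, 1, 1, 1] : List ℕ), 1).2] i = i :=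
  Fn.fix_of_rangeOK (Fn.rangeOK_step hm37_5 rfl
    (Fn.rangeOK_step hm37_4 rfl
    (Fn.rangeOK_step hm37_3 rfl
    (Fn.rangeOK_step hm37_2 rfl
    (Fn.rangeOK_step hm37_1 rfl
    (Fn.rangeOK_step hm37_0 rfl
    (Fn.rangeOK_start TT [2, 0, 4, 1, 1, 1, 5, 2, 4, 0, 0, 0, 5, 1, 3, 1, 1, 1] 1 tN)))))))

theorem hfix38 : ∀ i < tN, (Fn.applyW TT (([1, 1, 5, 1, 1, 4, 0, 5, 2, 4, 1, 5, 0, 0, 4, 0, 0, 5] : List ℕ), 1).1)^[(([1, 1, 5, 1, 1, 4, 0, 5, 2, 4, 1, 5, 0, 0, 4, 0, 0, 5] : List ℕ), 1).2] i = i :=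
  Fn.fix_of_rangeOK (Fn.rangeOK_step hm38_5 rfl
    (Fn.rangeOK_step hm38_4 rfl
    (Fn.rangeOK_step hm38_3 rfl
    (Fn.rangeOK_step hm38_2 rfl
    (Fn.rangeOK_step hm38_1 rfl
    (Fn.rangeOK_step hm38_0 rfl
    (Fn.rangeOK_start TT [1, 1, 5, 1, 1, 4, 0, 5, 2, 4, 1, 5, 0, 0, 4, 0, 0, 5] 1 tN)))))))

theorem hfix39 : ∀ i < tN, (Fn.applyW TT (([0, 4, 0, 4, 0, 2, 1, 1, 2, 0, 0, 3, 1, 5, 1, 5, 1, 5, 5] : List ℕ), 1).1)^[(([0, 4, 0, 4, 0, 2, 1, 1, 2, 0, 0, 3, 1, 5, 1, 5, 1, 5, 5] : List ℕ), 1).2] i = i :=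
  Fn.fix_of_rangeOK (Fn.rangeOK_step hm39_5 rfl
    (Fn.rangeOK_step hm39_4 rfl
    (Fn.rangeOK_step hm39_3 rfl
    (Fn.rangeOK_step hm39_2 rfl
    (Fn.rangeOK_step hm39_1 rfl
    (Fn.rangeOK_step hm39_0 rfl
    (Fn.rangeOK_start TT [0, 4, 0, 4, 0, 2, 1, 1, 2, 0, 0, 3, 1, 5, 1, 5, 1, 5, 5] 1 tN)))))))

theorem hfix40 : ∀ i < tN, (Fn.applyW TT (([3, 3, 4, 0, 5, 2, 2, 1, 2, 0, 3, 3, 4, 1, 5, 2, 2, 0, 0] : List ℕ), 1).1)^[(([3, 3, 4, 0, 5, 2, 2, 1, 2, 0, 3, 3, 4, 1, 5, 2, 2, 0, 0] : List ℕ), 1).2] i = i :=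
  Fn.fix_of_rangeOK (Fn.rangeOK_step hm40_5 rfl
    (Fn.rangeOK_step hm40_4 rfl
    (Fn.rangeOK_step hm40_3 rfl
    (Fn.rangeOK_step hm40_2 rfl
    (Fn.rangeOK_step hm40_1 rfl
    (Fn.rangeOK_step hm40_0 rfl
    (Fn.rangeOK_start TT [3, 3, 4, 0, 5, 2, 2, 1, 2, 0, 3, 3, 4, 1, 5, 2, 2, 0, 0] 1 tN)))))))

theorem hfix41 : ∀ i < tN, (Fn.applyW TT (([0, 4, 0, 4, 0, 3, 0, 0, 2, 1, 1, 2, 1, 5, 1, 5, 1, 5, 5] : List ℕ), 1).1)^[(([0, 4, 0, 4, 0, 3, 0, 0, 2, 1, 1, 2, 1, 5, 1, 5, 1, 5, 5] : List ℕ), 1).2] i = i :=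
  Fn.fix_of_rangeOK (Fn.rangeOK_step hm41_5 rfl
    (Fn.rangeOK_step hm41_4 rfl
    (Fn.rangeOK_step hm41_3 rfl
    (Fn.rangeOK_step hm41_2 rfl
    (Fn.rangeOK_step hm41_1 rfl
    (Fn.rangeOK_step hm41_0 rfl
    (Fn.rangeOK_start TT [0, 4, 0, 4, 0, 3, 0, 0, 2, 1, 1, 2, 1, 5, 1, 5, 1, 5, 5] 1 tN)))))))

theorem hfix42 : ∀ i < tN, (Fn.applyW TT (([0, 2, 1, 5, 1, 5, 0, 0, 2, 1, 1, 4, 0, 4, 0, 3, 1, 5, 5] : List ℕ), 1).1)^[(([0, 2, 1, 5, 1, 5, 0, 0, 2, 1, 1, 4, 0, 4, 0, 3, 1, 5, 5] : List ℕ), 1).2] i = i :=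
  Fn.fix_of_rangeOK (Fn.rangeOK_step hm42_5 rfl
    (Fn.rangeOK_step hm42_4 rfl
    (Fn.rangeOK_step hm42_3 rfl
    (Fn.rangeOK_step hm42_2 rfl
    (Fn.rangeOK_step hm42_1 rfl
    (Fn.rangeOK_step hm42_0 rfl
    (Fn.rangeOK_start TT [0, 2, 1, 5, 1, 5, 0, 0, 2, 1, 1, 4, 0, 4, 0, 3, 1, 5, 5] 1 tN)))))))

theorem hfix43 : ∀ i < tN, (Fn.applyW TT (([0, 3, 4, 1, 2, 0, 3, 4, 1, 2, 0, 5, 2, 1, 3, 0, 5, 2, 1, 3] : List ℕ), 1).1)^[(([0, 3, 4, 1, 2, 0, 3, 4, 1, 2, 0, 5, 2, 1, 3, 0, 5, 2, 1, 3] : List ℕ), 1).2] i = i :=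
  Fn.fix_of_rangeOK (Fn.rangeOK_step hm43_5 rfl
    (Fn.rangeOK_step hm43_4 rfl
    (Fn.rangeOK_step hm43_3 rfl
    (Fn.rangeOK_step hm43_2 rfl
    (Fn.rangeOK_step hm43_1 rfl
    (Fn.rangeOK_step hm43_0 rfl
    (Fn.rangeOK_start TT [0, 3, 4, 1, 2, 0, 3, 4, 1, 2, 0, 5, 2, 1, 3, 0, 5, 2, 1, 3] 1 tN)))))))

theorem hfix44 : ∀ i < tN, (Fn.applyW TT (([4, 2, 1, 1, 2, 5, 0, 0, 0, 2, 1, 1, 1, 4, 3, 0, 0, 3, 5, 1] : List ℕ), 1).1)^[(([4, 2, 1, 1, 2, 5, 0, 0, 0, 2, 1, 1, 1, 4, 3, 0, 0, 3, 5, 1] : List ℕ), 1).2] i = i :=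
  Fn.fix_of_rangeOK (Fn.rangeOK_step hm44_5 rfl
    (Fn.rangeOK_step hm44_4 rfl
    (Fn.rangeOK_step hm44_3 rfl
    (Fn.rangeOK_step hm44_2 rfl
    (Fn.rangeOK_step hm44_1 rfl
    (Fn.rangeOK_step hm44_0 rfl
    (Fn.rangeOK_start TT [4, 2, 1, 1, 2, 5, 0, 0, 0, 2, 1, 1, 1, 4, 3, 0, 0, 3, 5, 1] 1 tN)))))))

theorem hfix45 : ∀ i < tN, (Fn.applyW TT (([0, 4, 1, 3, 4, 2, 0, 4, 0, 2, 1, 5, 1, 3, 5, 2, 0, 5, 1, 5] : List ℕ), 1).1)^[(([0, 4, 1, 3, 4, 2, 0, 4, 0, 2, 1, 5, 1, 3, 5, 2, 0, 5, 1, 5] : List ℕ), 1).2] i = i :=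
  Fn.fix_of_rangeOK (Fn.rangeOK_step hm45_5 rfl
    (Fn.rangeOK_step hm45_4 rfl
    (Fn.rangeOK_step hm45_3 rfl
    (Fn.rangeOK_step hm45_2 rfl
    (Fn.rangeOK_step hm45_1 rfl
    (Fn.rangeOK_step hm45_0 rfl
    (Fn.rangeOK_start TT [0, 4, 1, 3, 4, 2, 0, 4, 0, 2, 1, 5, 1, 3, 5, 2, 0, 5, 1, 5] 1 tN)))))))

theorem hfix46 : ∀ i < tN, (Fn.applyW TT (([1, 3, 4, 1, 3, 5, 0, 4, 0, 2, 1, 5, 1, 4, 2, 0, 5, 2, 0, 3] : List ℕ), 1).1)^[(([1, 3, 4, 1, 3, 5, 0, 4, 0, 2, 1, 5, 1, 4, 2, 0, 5, 2, 0, 3] : List ℕ), 1).2] i = i :=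
  Fn.fix_of_rangeOK (Fn.rangeOK_step hm46_5 rfl
    (Fn.rangeOK_step hm46_4 rfl
    (Fn.rangeOK_step hm46_3 rfl
    (Fn.rangeOK_step hm46_2 rfl
    (Fn.rangeOK_step hm46_1 rfl
    (Fn.rangeOK_step hm46_0 rfl
    (Fn.rangeOK_start TT [1, 3, 4, 1, 3, 5, 0, 4, 0, 2, 1, 5, 1, 4, 2, 0, 5, 2, 0, 3] 1 tN)))))))

theorem hfix47 : ∀ i < tN, (Fn.applyW TT (([5, 2, 1, 3, 0, 5, 2, 1, 3, 0, 2, 0, 3, 4, 1, 2, 0, 3, 4, 1] : List ℕ), 1).1)^[(([5, 2, 1, 3, 0, 5, 2, 1, 3, 0, 2, 0, 3, 4, 1, 2, 0, 3, 4, 1] : List ℕ), 1).2] i = i :=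
  Fn.fix_of_rangeOK (Fn.rangeOK_step hm47_5 rfl
    (Fn.rangeOK_step hm47_4 rfl
    (Fn.rangeOK_step hm47_3 rfl
    (Fn.rangeOK_step hm47_2 rfl
    (Fn.rangeOK_step hm47_1 rfl
    (Fn.rangeOK_step hm47_0 rfl
    (Fn.rangeOK_start TT [5, 2, 1, 3, 0, 5, 2, 1, 3, 0, 2, 0, 3, 4, 1, 2, 0, 3, 4, 1] 1 tN)))))))

theorem hfix48 : ∀ i < tN, (Fn.applyW TT (([1, 2, 2, 4, 0, 3, 3, 1, 2, 0, 3, 0, 2, 2, 1, 5, 3, 3, 0, 2] : List ℕ), 1).1)^[(([1, 2, 2, 4, 0, 3, 3, 1, 2, 0, 3, 0, 2, 2, 1, 5, 3, 3, 0, 2] : List ℕ), 1).2] i = i :=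
  Fn.fix_of_rangeOK (Fn.rangeOK_step hm48_5 rfl
    (Fn.rangeOK_step hm48_4 rfl
    (Fn.rangeOK_step hm48_3 rfl
    (Fn.rangeOK_step hm48_2 rfl
    (Fn.rangeOK_step hm48_1 rfl
    (Fn.rangeOK_step hm48_0 rfl
    (Fn.rangeOK_start TT [1, 2, 2, 4, 0, 3, 3, 1, 2, 0, 3, 0, 2, 2, 1, 5, 3, 3, 0, 2] 1 tN)))))))

theorem hfix49 : ∀ i < tN, (Fn.applyW TT (([5, 2, 1, 3, 4, 3, 3, 1, 5, 0, 4, 0, 2, 2, 5, 2, 0, 3, 4, 0] : List ℕ), 1).1)^[(([5, 2, 1, 3, 4, 3, 3, 1, 5, 0, 4, 0, 2, 2, 5, 2, 0, 3, 4, 0] : List ℕ), 1).2] i = i :=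
  Fn.fix_of_rangeOK (Fn.rangeOK_step hm49_5 rfl
    (Fn.rangeOK_step hm49_4 rfl
    (Fn.rangeOK_step hm49_3 rfl
    (Fn.rangeOK_step hm49_2 rfl
    (Fn.rangeOK_step hm49_1 rfl
    (Fn.rangeOK_step hm49_0 rfl
    (Fn.rangeOK_start TT [5, 2, 1, 3, 4, 3, 3, 1, 5, 0, 4, 0, 2, 2, 5, 2, 0, 3, 4, 0] 1 tN)))))))

theorem hfix50 : ∀ i < tN, (Fn.applyW TT (([5, 1, 5, 1, 5, 1, 5, 1, 5, 0, 4, 0, 4, 0, 4, 0, 4, 0, 4, 1] : List ℕ), 1).1)^[(([5, 1, 5, 1, 5, 1, 5, 1, 5, 0, 4, 0, 4, 0, 4, 0, 4, 0, 4, 1] : List ℕ), 1).2] i = i :=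
  Fn.fix_of_rangeOK (Fn.rangeOK_step hm50_5 rfl
    (Fn.rangeOK_step hm50_4 rfl
    (Fn.rangeOK_step hm50_3 rfl
    (Fn.rangeOK_step hm50_2 rfl
    (Fn.rangeOK_step hm50_1 rfl
    (Fn.rangeOK_step hm50_0 rfl
    (Fn.rangeOK_start TT [5, 1, 5, 1, 5, 1, 5, 1, 5, 0, 4, 0, 4, 0, 4, 0, 4, 0, 4, 1] 1 tN)))))))

theorem hfix51 : ∀ i < tN, (Fn.applyW TT (([0, 4, 3, 0, 3, 1, 2, 0, 5, 0, 4, 1, 3, 0, 2, 1, 2, 5, 1, 3] : List ℕ), 1).1)^[(([0, 4, 3, 0, 3, 1, 2, 0, 5, 0, 4, 1, 3, 0, 2, 1, 2, 5, 1, 3] : List ℕ), 1).2] i = i :=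
  Fn.fix_of_rangeOK (Fn.rangeOK_step hm51_5 rfl
    (Fn.rangeOK_step hm51_4 rfl
    (Fn.rangeOK_step hm51_3 rfl
    (Fn.rangeOK_step hm51_2 rfl
    (Fn.rangeOK_step hm51_1 rfl
    (Fn.rangeOK_step hm51_0 rfl
    (Fn.rangeOK_start TT [0, 4, 3, 0, 3, 1, 2, 0, 5, 0, 4, 1, 3, 0, 2, 1, 2, 5, 1, 3] 1 tN)))))))

theorem hfix52 : ∀ i < tN, (Fn.applyW TT (([1, 1, 1, 4, 3, 0, 0, 3, 5, 0, 4, 2, 1, 1, 2, 5, 0, 0, 0, 3] : List ℕ), 1).1)^[(([1, 1, 1, 4, 3, 0, 0, 3, 5, 0, 4, 2, 1, 1, 2, 5, 0, 0, 0, 3] : List ℕ), 1).2] i = i :=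
  Fn.fix_of_rangeOK (Fn.rangeOK_step hm52_5 rfl
    (Fn.rangeOK_step hm52_4 rfl
    (Fn.rangeOK_step hm52_3 rfl
    (Fn.rangeOK_step hm52_2 rfl
    (Fn.rangeOK_step hm52_1 rfl
    (Fn.rangeOK_step hm52_0 rfl
    (Fn.rangeOK_start TT [1, 1, 1, 4, 3, 0, 0, 3, 5, 0, 4, 2, 1, 1, 2, 5, 0, 0, 0, 3] 1 tN)))))))

theorem hfix53 : ∀ i < tN, (Fn.applyW TT (([4, 4, 0, 4, 7, 5, 1, 1, 4, 0, 0, 4, 6, 5, 1, 5, 5, 2] : List ℕ), 1).1)^[(([4, 4, 0, 4, 7, 5, 1, 1, 4, 0, 0, 4, 6, 5, 1, 5, 5, 2] : List ℕ), 1).2] i = i :=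
  Fn.fix_of_rangeOK (Fn.rangeOK_step hm53_5 rfl
    (Fn.rangeOK_step hm53_4 rfl
    (Fn.rangeOK_step hm53_3 rfl
    (Fn.rangeOK_step hm53_2 rfl
    (Fn.rangeOK_step hm53_1 rfl
    (Fn.rangeOK_step hm53_0 rfl
    (Fn.rangeOK_start TT [4, 4, 0, 4, 7, 5, 1, 1, 4, 0, 0, 4, 6, 5, 1, 5, 5, 2] 1 tN)))))))

theorem hfix54 : ∀ i < tN, (Fn.applyW TT (([0, 4, 7, 0, 5, 6, 1, 1, 6, 0, 0, 7, 4, 1, 6, 5, 1, 7] : List ℕ), 1).1)^[(([0, 4, 7, 0, 5, 6, 1, 1, 6, 0, 0, 7, 4, 1, 6, 5, 1, 7] : List ℕ), 1).2] i = i :=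
  Fn.fix_of_rangeOK (Fn.rangeOK_step hm54_5 rfl
    (Fn.rangeOK_step hm54_4 rfl
    (Fn.rangeOK_step hm54_3 rfl
    (Fn.rangeOK_step hm54_2 rfl
    (Fn.rangeOK_step hm54_1 rfl
    (Fn.rangeOK_step hm54_0 rfl
    (Fn.rangeOK_start TT [0, 4, 7, 0, 5, 6, 1, 1, 6, 0, 0, 7, 4, 1, 6, 5, 1, 7] 1 tN)))))))

theorem hfix55 : ∀ i < tN, (Fn.applyW TT (([0, 0, 3, 0, 3, 0, 3, 1, 6, 0, 2, 1, 2, 1, 2, 1, 1, 7] : List ℕ), 1).1)^[(([0, 0, 3, 0, 3, 0, 3, 1, 6, 0, 2, 1, 2, 1, 2, 1, 1, 7] : List ℕ), 1).2] i = i :=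
  Fn.fix_of_rangeOK (Fn.rangeOK_step hm55_5 rfl
    (Fn.rangeOK_step hm55_4 rfl
    (Fn.rangeOK_step hm55_3 rfl
    (Fn.rangeOK_step hm55_2 rfl
    (Fn.rangeOK_step hm55_1 rfl
    (Fn.rangeOK_step hm55_0 rfl
    (Fn.rangeOK_start TT [0, 0, 3, 0, 3, 0, 3, 1, 6, 0, 2, 1, 2, 1, 2, 1, 1, 7] 1 tN)))))))

theorem hfix56 : ∀ i < tN, (Fn.applyW TT (([7, 2, 5, 6, 3, 0, 3, 1, 2, 0, 2, 1, 2, 7, 4, 3, 6, 1] : List ℕ), 1).1)^[(([7, 2, 5, 6, 3, 0, 3, 1, 2, 0, 2, 1, 2, 7, 4, 3, 6, 1] : List ℕ), 1).2] i = i :=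
  Fn.fix_of_rangeOK (Fn.rangeOK_step hm56_5 rfl
    (Fn.rangeOK_step hm56_4 rfl
    (Fn.rangeOK_step hm56_3 rfl
    (Fn.rangeOK_step hm56_2 rfl
    (Fn.rangeOK_step hm56_1 rfl
    (Fn.rangeOK_step hm56_0 rfl
    (Fn.rangeOK_start TT [7, 2, 5, 6, 3, 0, 3, 1, 2, 0, 2, 1, 2, 7, 4, 3, 6, 1] 1 tN)))))))

theorem hfix57 : ∀ i < tN, (Fn.applyW TT (([0, 6, 1, 4, 7, 0, 5, 1, 4, 0, 4, 1, 6, 5, 0, 7, 1, 5] : List ℕ), 1).1)^[(([0, 6, 1, 4, 7, 0, 5, 1, 4, 0, 4, 1, 6, 5, 0, 7, 1, 5] : List ℕ), 1).2] i = i :=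
  Fn.fix_of_rangeOK (Fn.rangeOK_step hm57_5 rfl
    (Fn.rangeOK_step hm57_4 rfl
    (Fn.rangeOK_step hm57_3 rfl
    (Fn.rangeOK_step hm57_2 rfl
    (Fn.rangeOK_step hm57_1 rfl
    (Fn.rangeOK_step hm57_0 rfl
    (Fn.rangeOK_start TT [0, 6, 1, 4, 7, 0, 5, 1, 4, 0, 4, 1, 6, 5, 0, 7, 1, 5] 1 tN)))))))

theorem hfix58 : ∀ i < tN, (Fn.applyW TT (([2, 4, 0, 7, 2, 1, 6, 0, 2, 1, 7, 0, 3, 6, 1, 5, 3, 1] : List ℕ), 1).1)^[(([2, 4, 0, 7, 2, 1, 6, 0, 2, 1, 7, 0, 3, 6, 1, 5, 3, 1] : List ℕ), 1).2] i = i :=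
  Fn.fix_of_rangeOK (Fn.rangeOK_step hm58_5 rfl
    (Fn.rangeOK_step hm58_4 rfl
    (Fn.rangeOK_step hm58_3 rfl
    (Fn.rangeOK_step hm58_2 rfl
    (Fn.rangeOK_step hm58_1 rfl
    (Fn.rangeOK_step hm58_0 rfl
    (Fn.rangeOK_start TT [2, 4, 0, 7, 2, 1, 6, 0, 2, 1, 7, 0, 3, 6, 1, 5, 3, 1] 1 tN)))))))

theorem hfix59 : ∀ i < tN, (Fn.applyW TT (([1, 1, 4, 7, 0, 5, 6, 0, 4, 1, 7, 4, 1, 6, 5, 0, 0, 5] : List ℕ), 1).1)^[(([1, 1, 4, 7, 0, 5, 6, 0, 4, 1, 7, 4, 1, 6, 5, 0, 0, 5] : List ℕ), 1).2] i = i :=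
  Fn.fix_of_rangeOK (Fn.rangeOK_step hm59_5 rfl
    (Fn.rangeOK_step hm59_4 rfl
    (Fn.rangeOK_step hm59_3 rfl
    (Fn.rangeOK_step hm59_2 rfl
    (Fn.rangeOK_step hm59_1 rfl
    (Fn.rangeOK_step hm59_0 rfl
    (Fn.rangeOK_start TT [1, 1, 4, 7, 0, 5, 6, 0, 4, 1, 7, 4, 1, 6, 5, 0, 0, 5] 1 tN)))))))

theorem hfix60 : ∀ i < tN, (Fn.applyW TT (([2, 4, 7, 0, 5, 6, 1, 3, 6, 2, 0, 7, 4, 1, 6, 5, 3, 7] : List ℕ), 1).1)^[(([2, 4, 7, 0, 5, 6, 1, 3, 6, 2, 0, 7, 4, 1, 6, 5, 3, 7] : List ℕ), 1).2] i = i :=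
  Fn.fix_of_rangeOK (Fn.rangeOK_step hm60_5 rfl
    (Fn.rangeOK_step hm60_4 rfl
    (Fn.rangeOK_step hm60_3 rfl
    (Fn.rangeOK_step hm60_2 rfl
    (Fn.rangeOK_step hm60_1 rfl
    (Fn.rangeOK_step hm60_0 rfl
    (Fn.rangeOK_start TT [2, 4, 7, 0, 5, 6, 1, 3, 6, 2, 0, 7, 4, 1, 6, 5, 3, 7] 1 tN)))))))

theorem hfix61 : ∀ i < tN, (Fn.applyW TT (([6, 2, 0, 2, 0, 7, 2, 2, 0, 3, 3, 6, 1, 3, 1, 3, 7, 3] : List ℕ), 1).1)^[(([6, 2, 0, 2, 0, 7, 2, 2, 0, 3, 3, 6, 1, 3, 1, 3, 7, 3] : List ℕ), 1).2] i = i :=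
  Fn.fix_of_rangeOK (Fn.rangeOK_step hm61_5 rfl
    (Fn.rangeOK_step hm61_4 rfl
    (Fn.rangeOK_step hm61_3 rfl
    (Fn.rangeOK_step hm61_2 rfl
    (Fn.rangeOK_step hm61_1 rfl
    (Fn.rangeOK_step hm61_0 rfl
    (Fn.rangeOK_start TT [6, 2, 0, 2, 0, 7, 2, 2, 0, 3, 3, 6, 1, 3, 1, 3, 7, 3] 1 tN)))))))

theorem hfix62 : ∀ i < tN, (Fn.applyW TT (([3, 0, 5, 6, 1, 4, 7, 2, 0, 3, 6, 5, 0, 7, 4, 1, 2, 1] : List ℕ), 1).1)^[(([3, 0, 5, 6, 1, 4, 7, 2, 0, 3, 6, 5, 0, 7, 4, 1, 2, 1] : List ℕ), 1).2] i = i :=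
  Fn.fix_of_rangeOK (Fn.rangeOK_step hm62_5 rfl
    (Fn.rangeOK_step hm62_4 rfl
    (Fn.rangeOK_step hm62_3 rfl
    (Fn.rangeOK_step hm62_2 rfl
    (Fn.rangeOK_step hm62_1 rfl
    (Fn.rangeOK_step hm62_0 rfl
    (Fn.rangeOK_start TT [3, 0, 5, 6, 1, 4, 7, 2, 0, 3, 6, 5, 0, 7, 4, 1, 2, 1] 1 tN)))))))

theorem hfix63 : ∀ i < tN, (Fn.applyW TT (([3, 0, 5, 6, 1, 4, 7, 2, 4, 3, 6, 5, 0, 7, 4, 1, 2, 5] : List ℕ), 1).1)^[(([3, 0, 5, 6, 1, 4, 7, 2, 4, 3, 6, 5, 0, 7, 4, 1, 2, 5] : List ℕ), 1).2] i = i :=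
  Fn.fix_of_rangeOK (Fn.rangeOK_step hm63_5 rfl
    (Fn.rangeOK_step hm63_4 rfl
    (Fn.rangeOK_step hm63_3 rfl
    (Fn.rangeOK_step hm63_2 rfl
    (Fn.rangeOK_step hm63_1 rfl
    (Fn.rangeOK_step hm63_0 rfl
    (Fn.rangeOK_start TT [3, 0, 5, 6, 1, 4, 7, 2, 4, 3, 6, 5, 0, 7, 4, 1, 2, 5] 1 tN)))))))

theorem hfix64 : ∀ i < tN, (Fn.applyW TT (([3, 5, 0, 7, 4, 1, 6, 2, 6, 3, 7, 0, 5, 6, 1, 4, 2, 7] : List ℕ), 1).1)^[(([3, 5, 0, 7, 4, 1, 6, 2, 6, 3, 7, 0, 5, 6, 1, 4, 2, 7] : List ℕ), 1).2] i = i :=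
  Fn.fix_of_rangeOK (Fn.rangeOK_step hm64_5 rfl
    (Fn.rangeOK_step hm64_4 rfl
    (Fn.rangeOK_step hm64_3 rfl
    (Fn.rangeOK_step hm64_2 rfl
    (Fn.rangeOK_step hm64_1 rfl
    (Fn.rangeOK_step hm64_0 rfl
    (Fn.rangeOK_start TT [3, 5, 0, 7, 4, 1, 6, 2, 6, 3, 7, 0, 5, 6, 1, 4, 2, 7] 1 tN)))))))

theorem hfix65 : ∀ i < tN, (Fn.applyW TT (([3, 1, 4, 7, 0, 5, 6, 2, 0, 3, 7, 4, 1, 6, 5, 0, 2, 1] : List ℕ), 1).1)^[(([3, 1, 4, 7, 0, 5, 6, 2, 0, 3, 7, 4, 1, 6, 5, 0, 2, 1] : List ℕ), 1).2] i = i :=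
  Fn.fix_of_rangeOK (Fn.rangeOK_step hm65_5 rfl
    (Fn.rangeOK_step hm65_4 rfl
    (Fn.rangeOK_step hm65_3 rfl
    (Fn.rangeOK_step hm65_2 rfl
    (Fn.rangeOK_step hm65_1 rfl
    (Fn.rangeOK_step hm65_0 rfl
    (Fn.rangeOK_start TT [3, 1, 4, 7, 0, 5, 6, 2, 0, 3, 7, 4, 1, 6, 5, 0, 2, 1] 1 tN)))))))

theorem hfix66 : ∀ i < tN, (Fn.applyW TT (([3, 1, 4, 7, 0, 5, 6, 2, 4, 3, 7, 4, 1, 6, 5, 0, 2, 5] : List ℕ), 1).1)^[(([3, 1, 4, 7, 0, 5, 6, 2, 4, 3, 7, 4, 1, 6, 5, 0, 2, 5] : List ℕ), 1).2] i = i :=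
  Fn.fix_of_rangeOK (Fn.rangeOK_step hm66_5 rfl
    (Fn.rangeOK_step hm66_4 rfl
    (Fn.rangeOK_step hm66_3 rfl
    (Fn.rangeOK_step hm66_2 rfl
    (Fn.rangeOK_step hm66_1 rfl
    (Fn.rangeOK_step hm66_0 rfl
    (Fn.rangeOK_start TT [3, 1, 4, 7, 0, 5, 6, 2, 4, 3, 7, 4, 1, 6, 5, 0, 2, 5] 1 tN)))))))

theorem hfix67 : ∀ i < tN, (Fn.applyW TT (([3, 1, 4, 7, 0, 5, 6, 2, 6, 3, 7, 4, 1, 6, 5, 0, 2, 7] : List ℕ), 1).1)^[(([3, 1, 4, 7, 0, 5, 6, 2, 6, 3, 7, 4, 1, 6, 5, 0, 2, 7] : List ℕ), 1).2] i = i :=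
  Fn.fix_of_rangeOK (Fn.rangeOK_step hm67_5 rfl
    (Fn.rangeOK_step hm67_4 rfl
    (Fn.rangeOK_step hm67_3 rfl
    (Fn.rangeOK_step hm67_2 rfl
    (Fn.rangeOK_step hm67_1 rfl
    (Fn.rangeOK_step hm67_0 rfl
    (Fn.rangeOK_start TT [3, 1, 4, 7, 0, 5, 6, 2, 6, 3, 7, 4, 1, 6, 5, 0, 2, 7] 1 tN)))))))

theorem hfix68 : ∀ i < tN, (Fn.applyW TT (([4, 6, 5, 0, 7, 4, 1, 5, 6, 4, 0, 5, 6, 1, 4, 7, 5, 7] : List ℕ), 1).1)^[(([4, 6, 5, 0, 7, 4, 1, 5, 6, 4, 0, 5, 6, 1, 4, 7, 5, 7] : List ℕ), 1).2] i = i :=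
  Fn.fix_of_rangeOK (Fn.rangeOK_step hm68_5 rfl
    (Fn.rangeOK_step hm68_4 rfl
    (Fn.rangeOK_step hm68_3 rfl
    (Fn.rangeOK_step hm68_2 rfl
    (Fn.rangeOK_step hm68_1 rfl
    (Fn.rangeOK_step hm68_0 rfl
    (Fn.rangeOK_start TT [4, 6, 5, 0, 7, 4, 1, 5, 6, 4, 0, 5, 6, 1, 4, 7, 5, 7] 1 tN)))))))

theorem hfix69 : ∀ i < tN, (Fn.applyW TT (([4, 3, 0, 3, 0, 3, 0, 5, 6, 4, 1, 2, 1, 2, 1, 2, 5, 7] : List ℕ), 1).1)^[(([4, 3, 0, 3, 0, 3, 0, 5, 6, 4, 1, 2, 1, 2, 1, 2, 5, 7] : List ℕ), 1).2] i = i :=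
  Fn.fix_of_rangeOK (Fn.rangeOK_step hm69_5 rfl
    (Fn.rangeOK_step hm69_4 rfl
    (Fn.rangeOK_step hm69_3 rfl
    (Fn.rangeOK_step hm69_2 rfl
    (Fn.rangeOK_step hm69_1 rfl
    (Fn.rangeOK_step hm69_0 rfl
    (Fn.rangeOK_start TT [4, 3, 0, 3, 0, 3, 0, 5, 6, 4, 1, 2, 1, 2, 1, 2, 5, 7] 1 tN)))))))

theorem hfix70 : ∀ i < tN, (Fn.applyW TT (([4, 7, 4, 1, 6, 5, 0, 5, 0, 4, 1, 4, 7, 0, 5, 6, 5, 1] : List ℕ), 1).1)^[(([4, 7, 4, 1, 6, 5, 0, 5, 0, 4, 1, 4, 7, 0, 5, 6, 5, 1] : List ℕ), 1).2] i = i :=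
  Fn.fix_of_rangeOK (Fn.rangeOK_step hm70_5 rfl
    (Fn.rangeOK_step hm70_4 rfl
    (Fn.rangeOK_step hm70_3 rfl
    (Fn.rangeOK_step hm70_2 rfl
    (Fn.rangeOK_step hm70_1 rfl
    (Fn.rangeOK_step hm70_0 rfl
    (Fn.rangeOK_start TT [4, 7, 4, 1, 6, 5, 0, 5, 0, 4, 1, 4, 7, 0, 5, 6, 5, 1] 1 tN)))))))

theorem hfix71 : ∀ i < tN, (Fn.applyW TT (([4, 7, 4, 1, 6, 5, 0, 5, 6, 4, 1, 4, 7, 0, 5, 6, 5, 7] : List ℕ), 1).1)^[(([4, 7, 4, 1, 6, 5, 0, 5, 6, 4, 1, 4, 7, 0, 5, 6, 5, 7] : List ℕ), 1).2] i = i :=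
  Fn.fix_of_rangeOK (Fn.rangeOK_step hm71_5 rfl
    (Fn.rangeOK_step hm71_4 rfl
    (Fn.rangeOK_step hm71_3 rfl
    (Fn.rangeOK_step hm71_2 rfl
    (Fn.rangeOK_step hm71_1 rfl
    (Fn.rangeOK_step hm71_0 rfl
    (Fn.rangeOK_start TT [4, 7, 4, 1, 6, 5, 0, 5, 6, 4, 1, 4, 7, 0, 5, 6, 5, 7] 1 tN)))))))

theorem hfix72 : ∀ i < tN, (Fn.applyW TT (([0, 6, 0, 2, 6, 4, 4, 1, 4, 0, 5, 5, 7, 3, 1, 7, 1, 2, 2] : List ℕ), 1).1)^[(([0, 6, 0, 2, 6, 4, 4, 1, 4, 0, 5, 5, 7, 3, 1, 7, 1, 2, 2] : List ℕ), 1).2] i = i :=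
  Fn.fix_of_rangeOK (Fn.rangeOK_step hm72_5 rfl
    (Fn.rangeOK_step hm72_4 rfl
    (Fn.rangeOK_step hm72_3 rfl
    (Fn.rangeOK_step hm72_2 rfl
    (Fn.rangeOK_step hm72_1 rfl
    (Fn.rangeOK_step hm72_0 rfl
    (Fn.rangeOK_start TT [0, 6, 0, 2, 6, 4, 4, 1, 4, 0, 5, 5, 7, 3, 1, 7, 1, 2, 2] 1 tN)))))))

theorem hfix73 : ∀ i < tN, (Fn.applyW TT (([6, 4, 1, 6, 4, 7, 1, 5, 6, 4, 0, 6, 5, 7, 0, 5, 7, 5, 5] : List ℕ), 1).1)^[(([6, 4, 1, 6, 4, 7, 1, 5, 6, 4, 0, 6, 5, 7, 0, 5, 7, 5, 5] : List ℕ), 1).2] i = i :=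
  Fn.fix_of_rangeOK (Fn.rangeOK_step hm73_5 rfl
    (Fn.rangeOK_step hm73_4 rfl
    (Fn.rangeOK_step hm73_3 rfl
    (Fn.rangeOK_step hm73_2 rfl
    (Fn.rangeOK_step hm73_1 rfl
    (Fn.rangeOK_step hm73_0 rfl
    (Fn.rangeOK_start TT [6, 4, 1, 6, 4, 7, 1, 5, 6, 4, 0, 6, 5, 7, 0, 5, 7, 5, 5] 1 tN)))))))

theorem hfix74 : ∀ i < tN, (Fn.applyW TT (([5, 0, 6, 2, 2, 4, 2, 5, 2, 4, 3, 5, 3, 3, 7, 1, 4, 3, 3] : List ℕ), 1).1)^[(([5, 0, 6, 2, 2, 4, 2, 5, 2, 4, 3, 5, 3, 3, 7, 1, 4, 3, 3] : List ℕ), 1).2] i = i :=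
  Fn.fix_of_rangeOK (Fn.rangeOK_step hm74_5 rfl
    (Fn.rangeOK_step hm74_4 rfl
    (Fn.rangeOK_step hm74_3 rfl
    (Fn.rangeOK_step hm74_2 rfl
    (Fn.rangeOK_step hm74_1 rfl
    (Fn.rangeOK_step hm74_0 rfl
    (Fn.rangeOK_start TT [5, 0, 6, 2, 2, 4, 2, 5, 2, 4, 3, 5, 3, 3, 7, 1, 4, 3, 3] 1 tN)))))))

theorem hfix75 : ∀ i < tN, (Fn.applyW TT (([2, 0, 5, 5, 6, 1, 3, 7, 0, 2, 1, 6, 2, 0, 7, 4, 4, 1, 3, 1] : List ℕ), 1).1)^[(([2, 0, 5, 5, 6, 1, 3, 7, 0, 2, 1, 6, 2, 0, 7, 4, 4, 1, 3, 1] : List ℕ), 1).2] i = i :=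
  Fn.fix_of_rangeOK (Fn.rangeOK_step hm75_5 rfl
    (Fn.rangeOK_step hm75_4 rfl
    (Fn.rangeOK_step hm75_3 rfl
    (Fn.rangeOK_step hm75_2 rfl
    (Fn.rangeOK_step hm75_1 rfl
    (Fn.rangeOK_step hm75_0 rfl
    (Fn.rangeOK_start TT [2, 0, 5, 5, 6, 1, 3, 7, 0, 2, 1, 6, 2, 0, 7, 4, 4, 1, 3, 1] 1 tN)))))))

theorem hfix76 : ∀ i < tN, (Fn.applyW TT (([2, 1, 6, 0, 7, 2, 1, 6, 0, 6, 1, 7, 0, 3, 6, 1, 7, 0, 3, 7] : List ℕ), 1).1)^[(([2, 1, 6, 0, 7, 2, 1, 6, 0, 6, 1, 7, 0, 3, 6, 1, 7, 0, 3, 7] : List ℕ), 1).2] i = i :=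
  Fn.fix_of_rangeOK (Fn.rangeOK_step hm76_5 rfl
    (Fn.rangeOK_step hm76_4 rfl
    (Fn.rangeOK_step hm76_3 rfl
    (Fn.rangeOK_step hm76_2 rfl
    (Fn.rangeOK_step hm76_1 rfl
    (Fn.rangeOK_step hm76_0 rfl
    (Fn.rangeOK_start TT [2, 1, 6, 0, 7, 2, 1, 6, 0, 6, 1, 7, 0, 3, 6, 1, 7, 0, 3, 7] 1 tN)))))))

theorem hfix77 : ∀ i < tN, (Fn.applyW TT (([2, 4, 7, 2, 6, 2, 4, 7, 2, 6, 3, 6, 5, 3, 7, 3, 6, 5, 3, 7] : List ℕ), 1).1)^[(([2, 4, 7, 2, 6, 2, 4, 7, 2, 6, 3, 6, 5, 3, 7, 3, 6, 5, 3, 7] : List ℕ), 1).2] i = i :=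
  Fn.fix_of_rangeOK (Fn.rangeOK_step hm77_5 rfl
    (Fn.rangeOK_step hm77_4 rfl
    (Fn.rangeOK_step hm77_3 rfl
    (Fn.rangeOK_step hm77_2 rfl
    (Fn.rangeOK_step hm77_1 rfl
    (Fn.rangeOK_step hm77_0 rfl
    (Fn.rangeOK_start TT [2, 4, 7, 2, 6, 2, 4, 7, 2, 6, 3, 6, 5, 3, 7, 3, 6, 5, 3, 7] 1 tN)))))))

theorem hfix78 : ∀ i < tN, (Fn.applyW TT (([6, 5, 2, 0, 2, 2, 1, 6, 2, 4, 3, 7, 0, 3, 3, 1, 3, 4, 7, 0] : List ℕ), 1).1)^[(([6, 5, 2, 0, 2, 2, 1, 6, 2, 4, 3, 7, 0, 3, 3, 1, 3, 4, 7, 0] : List ℕ), 1).2] i = i :=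
  Fn.fix_of_rangeOK (Fn.rangeOK_step hm78_5 rfl
    (Fn.rangeOK_step hm78_4 rfl
    (Fn.rangeOK_step hm78_3 rfl
    (Fn.rangeOK_step hm78_2 rfl
    (Fn.rangeOK_step hm78_1 rfl
    (Fn.rangeOK_step hm78_0 rfl
    (Fn.rangeOK_start TT [6, 5, 2, 0, 2, 2, 1, 6, 2, 4, 3, 7, 0, 3, 3, 1, 3, 4, 7, 0] 1 tN)))))))

theorem hfix79 : ∀ i < tN, (Fn.applyW TT (([2, 2, 1, 7, 0, 3, 6, 1, 5, 2, 4, 0, 7, 2, 1, 6, 0, 3, 3, 1] : List ℕ), 1).1)^[(([2, 2, 1, 7, 0, 3, 6, 1, 5, 2, 4, 0, 7, 2, 1, 6, 0, 3, 3, 1] : List ℕ), 1).2] i = i :=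
  Fn.fix_of_rangeOK (Fn.rangeOK_step hm79_5 rfl
    (Fn.rangeOK_step hm79_4 rfl
    (Fn.rangeOK_step hm79_3 rfl
    (Fn.rangeOK_step hm79_2 rfl
    (Fn.rangeOK_step hm79_1 rfl
    (Fn.rangeOK_step hm79_0 rfl
    (Fn.rangeOK_start TT [2, 2, 1, 7, 0, 3, 6, 1, 5, 2, 4, 0, 7, 2, 1, 6, 0, 3, 3, 1] 1 tN)))))))

theorem hfix80 : ∀ i < tN, (Fn.applyW TT (([2, 1, 6, 2, 1, 1, 2, 4, 6, 0, 7, 5, 3, 0, 0, 3, 7, 0, 3, 5] : List ℕ), 1).1)^[(([2, 1, 6, 2, 1, 1, 2, 4, 6, 0, 7, 5, 3, 0, 0, 3, 7, 0, 3, 5] : List ℕ), 1).2] i = i :=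
  Fn.fix_of_rangeOK (Fn.rangeOK_step hm80_5 rfl
    (Fn.rangeOK_step hm80_4 rfl
    (Fn.rangeOK_step hm80_3 rfl
    (Fn.rangeOK_step hm80_2 rfl
    (Fn.rangeOK_step hm80_1 rfl
    (Fn.rangeOK_step hm80_0 rfl
    (Fn.rangeOK_start TT [2, 1, 6, 2, 1, 1, 2, 4, 6, 0, 7, 5, 3, 0, 0, 3, 7, 0, 3, 5] 1 tN)))))))

theorem hfix81 : ∀ i < tN, (Fn.applyW TT (([9, 0, 5, 8, 1, 4, 0, 9, 4, 1, 8, 5] : List ℕ), 1).1)^[(([9, 0, 5, 8, 1, 4, 0, 9, 4, 1, 8, 5] : List ℕ), 1).2] i = i :=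
  Fn.fix_of_rangeOK (Fn.rangeOK_step hm81_3 rfl
    (Fn.rangeOK_step hm81_2 rfl
    (Fn.rangeOK_step hm81_1 rfl
    (Fn.rangeOK_step hm81_0 rfl
    (Fn.rangeOK_start TT [9, 0, 5, 8, 1, 4, 0, 9, 4, 1, 8, 5] 1 tN)))))

theorem hfix82 : ∀ i < tN, (Fn.applyW TT (([8, 1, 4, 9, 0, 4, 1, 8, 5, 0, 9, 5] : List ℕ), 1).1)^[(([8, 1, 4, 9, 0, 4, 1, 8, 5, 0, 9, 5] : List ℕ), 1).2] i = i :=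
  Fn.fix_of_rangeOK (Fn.rangeOK_step hm82_3 rfl
    (Fn.rangeOK_step hm82_2 rfl
    (Fn.rangeOK_step hm82_1 rfl
    (Fn.rangeOK_step hm82_0 rfl
    (Fn.rangeOK_start TT [8, 1, 4, 9, 0, 4, 1, 8, 5, 0, 9, 5] 1 tN)))))

theorem hfix83 : ∀ i < tN, (Fn.applyW TT (([9, 4, 1, 8, 5, 0, 4, 9, 0, 5, 8, 1] : List ℕ), 1).1)^[(([9, 4, 1, 8, 5, 0, 4, 9, 0, 5, 8, 1] : List ℕ), 1).2] i = i :=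
  Fn.fix_of_rangeOK (Fn.rangeOK_step hm83_3 rfl
    (Fn.rangeOK_step hm83_2 rfl
    (Fn.rangeOK_step hm83_1 rfl
    (Fn.rangeOK_step hm83_0 rfl
    (Fn.rangeOK_start TT [9, 4, 1, 8, 5, 0, 4, 9, 0, 5, 8, 1] 1 tN)))))

theorem hfix84 : ∀ i < tN, (Fn.applyW TT (([0, 5, 8, 1, 4, 8, 5, 0, 9, 4, 1, 9] : List ℕ), 1).1)^[(([0, 5, 8, 1, 4, 8, 5, 0, 9, 4, 1, 9] : List ℕ), 1).2] i = i :=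
  Fn.fix_of_rangeOK (Fn.rangeOK_step hm84_3 rfl
    (Fn.rangeOK_step hm84_2 rfl
    (Fn.rangeOK_step hm84_1 rfl
    (Fn.rangeOK_step hm84_0 rfl
    (Fn.rangeOK_start TT [0, 5, 8, 1, 4, 8, 5, 0, 9, 4, 1, 9] 1 tN)))))

theorem hfix85 : ∀ i < tN, (Fn.applyW TT (([8, 5, 0, 9, 4, 0, 5, 8, 1, 4, 9, 1] : List ℕ), 1).1)^[(([8, 5, 0, 9, 4, 0, 5, 8, 1, 4, 9, 1] : List ℕ), 1).2] i = i :=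
  Fn.fix_of_rangeOK (Fn.rangeOK_step hm85_3 rfl
    (Fn.rangeOK_step hm85_2 rfl
    (Fn.rangeOK_step hm85_1 rfl
    (Fn.rangeOK_step hm85_0 rfl
    (Fn.rangeOK_start TT [8, 5, 0, 9, 4, 0, 5, 8, 1, 4, 9, 1] 1 tN)))))

theorem hfix86 : ∀ i < tN, (Fn.applyW TT (([6, 9, 6, 9, 6, 8, 7, 8, 7, 8, 7, 9] : List ℕ), 1).1)^[(([6, 9, 6, 9, 6, 8, 7, 8, 7, 8, 7, 9] : List ℕ), 1).2] i = i :=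
  Fn.fix_of_rangeOK (Fn.rangeOK_step hm86_3 rfl
    (Fn.rangeOK_step hm86_2 rfl
    (Fn.rangeOK_step hm86_1 rfl
    (Fn.rangeOK_step hm86_0 rfl
    (Fn.rangeOK_start TT [6, 9, 6, 9, 6, 8, 7, 8, 7, 8, 7, 9] 1 tN)))))

theorem hfix87 : ∀ i < tN, (Fn.applyW TT (([8, 7, 8, 7, 8, 7, 4, 6, 9, 6, 9, 6, 9, 5] : List ℕ), 1).1)^[(([8, 7, 8, 7, 8, 7, 4, 6, 9, 6, 9, 6, 9, 5] : List ℕ), 1).2] i = i :=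
  Fn.fix_of_rangeOK (Fn.rangeOK_step hm87_4 rfl
    (Fn.rangeOK_step hm87_3 rfl
    (Fn.rangeOK_step hm87_2 rfl
    (Fn.rangeOK_step hm87_1 rfl
    (Fn.rangeOK_step hm87_0 rfl
    (Fn.rangeOK_start TT [8, 7, 8, 7, 8, 7, 4, 6, 9, 6, 9, 6, 9, 5] 1 tN))))))

theorem hfix88 : ∀ i < tN, (Fn.applyW TT (([5, 0, 7, 4, 1, 6, 8, 7, 0, 5, 6, 1, 4, 9] : List ℕ), 1).1)^[(([5, 0, 7, 4, 1, 6, 8, 7, 0, 5, 6, 1, 4, 9] : List ℕ), 1).2] i = i :=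
  Fn.fix_of_rangeOK (Fn.rangeOK_step hm88_4 rfl
    (Fn.rangeOK_step hm88_3 rfl
    (Fn.rangeOK_step hm88_2 rfl
    (Fn.rangeOK_step hm88_1 rfl
    (Fn.rangeOK_step hm88_0 rfl
    (Fn.rangeOK_start TT [5, 0, 7, 4, 1, 6, 8, 7, 0, 5, 6, 1, 4, 9] 1 tN))))))

theorem hfix89 : ∀ i < tN, (Fn.applyW TT (([4, 1, 8, 5, 0, 9, 6, 8, 1, 4, 9, 0, 5, 7] : List ℕ), 1).1)^[(([4, 1, 8, 5, 0, 9, 6, 8, 1, 4, 9, 0, 5, 7] : List ℕ), 1).2] i = i :=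
  Fn.fix_of_rangeOK (Fn.rangeOK_step hm89_4 rfl
    (Fn.rangeOK_step hm89_3 rfl
    (Fn.rangeOK_step hm89_2 rfl
    (Fn.rangeOK_step hm89_1 rfl
    (Fn.rangeOK_step hm89_0 rfl
    (Fn.rangeOK_start TT [4, 1, 8, 5, 0, 9, 6, 8, 1, 4, 9, 0, 5, 7] 1 tN))))))

theorem hfix90 : ∀ i < tN, (Fn.applyW TT (([9, 6, 9, 0, 5, 5, 1, 2, 0, 4, 4, 1, 8, 7, 8, 5, 5] : List ℕ), 1).1)^[(([9, 6, 9, 0, 5, 5, 1, 2, 0, 4, 4, 1, 8, 7, 8, 5, 5] : List ℕ), 1).2] i = i :=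
  Fn.fix_of_rangeOK (Fn.rangeOK_step hm90_4 rfl
    (Fn.rangeOK_step hm90_3 rfl
    (Fn.rangeOK_step hm90_2 rfl
    (Fn.rangeOK_step hm90_1 rfl
    (Fn.rangeOK_step hm90_0 rfl
    (Fn.rangeOK_start TT [9, 6, 9, 0, 5, 5, 1, 2, 0, 4, 4, 1, 8, 7, 8, 5, 5] 1 tN))))))

theorem hfix91 : ∀ i < tN, (Fn.applyW TT (([8, 7, 2, 1, 6, 9, 0, 3, 4, 2, 1, 8, 7, 0, 3, 6, 9, 5] : List ℕ), 1).1)^[(([8, 7, 2, 1, 6, 9, 0, 3, 4, 2, 1, 8, 7, 0, 3, 6, 9, 5] : List ℕ), 1).2] i = i :=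
  Fn.fix_of_rangeOK (Fn.rangeOK_step hm91_5 rfl
    (Fn.rangeOK_step hm91_4 rfl
    (Fn.rangeOK_step hm91_3 rfl
    (Fn.rangeOK_step hm91_2 rfl
    (Fn.rangeOK_step hm91_1 rfl
    (Fn.rangeOK_step hm91_0 rfl
    (Fn.rangeOK_start TT [8, 7, 2, 1, 6, 9, 0, 3, 4, 2, 1, 8, 7, 0, 3, 6, 9, 5] 1 tN)))))))

theorem hfix92 : ∀ i < tN, (Fn.applyW TT (([0, 0, 3, 3, 0, 0, 3, 3, 8, 2, 2, 1, 1, 2, 2, 1, 1, 9] : List ℕ), 1).1)^[(([0, 0, 3, 3, 0, 0, 3, 3, 8, 2, 2, 1, 1, 2, 2, 1, 1, 9] : List ℕ), 1).2] i = i :=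
  Fn.fix_of_rangeOK (Fn.rangeOK_step hm92_5 rfl
    (Fn.rangeOK_step hm92_4 rfl
    (Fn.rangeOK_step hm92_3 rfl
    (Fn.rangeOK_step hm92_2 rfl
    (Fn.rangeOK_step hm92_1 rfl
    (Fn.rangeOK_step hm92_0 rfl
    (Fn.rangeOK_start TT [0, 0, 3, 3, 0, 0, 3, 3, 8, 2, 2, 1, 1, 2, 2, 1, 1, 9] 1 tN)))))))

theorem hfix93 : ∀ i < tN, (Fn.applyW TT (([7, 8, 2, 4, 9, 6, 5, 3, 0, 2, 4, 7, 8, 5, 3, 9, 6, 1] : List ℕ), 1).1)^[(([7, 8, 2, 4, 9, 6, 5, 3, 0, 2, 4, 7, 8, 5, 3, 9, 6, 1] : List ℕ), 1).2] i = i :=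
  Fn.fix_of_rangeOK (Fn.rangeOK_step hm93_5 rfl
    (Fn.rangeOK_step hm93_4 rfl
    (Fn.rangeOK_step hm93_3 rfl
    (Fn.rangeOK_step hm93_2 rfl
    (Fn.rangeOK_step hm93_1 rfl
    (Fn.rangeOK_step hm93_0 rfl
    (Fn.rangeOK_start TT [7, 8, 2, 4, 9, 6, 5, 3, 0, 2, 4, 7, 8, 5, 3, 9, 6, 1] 1 tN)))))))

theorem hfix94 : ∀ i < tN, (Fn.applyW TT (([7, 8, 2, 4, 9, 6, 5, 3, 4, 2, 4, 7, 8, 5, 3, 9, 6, 5] : List ℕ), 1).1)^[(([7, 8, 2, 4, 9, 6, 5, 3, 4, 2, 4, 7, 8, 5, 3, 9, 6, 5] : List ℕ), 1).2] i = i :=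
  Fn.fix_of_rangeOK (Fn.rangeOK_step hm94_5 rfl
    (Fn.rangeOK_step hm94_4 rfl
    (Fn.rangeOK_step hm94_3 rfl
    (Fn.rangeOK_step hm94_2 rfl
    (Fn.rangeOK_step hm94_1 rfl
    (Fn.rangeOK_step hm94_0 rfl
    (Fn.rangeOK_start TT [7, 8, 2, 4, 9, 6, 5, 3, 4, 2, 4, 7, 8, 5, 3, 9, 6, 5] 1 tN)))))))

theorem hfix95 : ∀ i < tN, (Fn.applyW TT (([7, 8, 2, 4, 9, 6, 5, 3, 8, 2, 4, 7, 8, 5, 3, 9, 6, 9] : List ℕ), 1).1)^[(([7, 8, 2, 4, 9, 6, 5, 3, 8, 2, 4, 7, 8, 5, 3, 9, 6, 9] : List ℕ), 1).2] i = i :=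
  Fn.fix_of_rangeOK (Fn.rangeOK_step hm95_5 rfl
    (Fn.rangeOK_step hm95_4 rfl
    (Fn.rangeOK_step hm95_3 rfl
    (Fn.rangeOK_step hm95_2 rfl
    (Fn.rangeOK_step hm95_1 rfl
    (Fn.rangeOK_step hm95_0 rfl
    (Fn.rangeOK_start TT [7, 8, 2, 4, 9, 6, 5, 3, 8, 2, 4, 7, 8, 5, 3, 9, 6, 9] 1 tN)))))))

theorem hfix96 : ∀ i < tN, (Fn.applyW TT (([5, 9, 6, 8, 8, 2, 4, 3, 8, 2, 5, 3, 9, 9, 7, 8, 4, 3] : List ℕ), 1).1)^[(([5, 9, 6, 8, 8, 2, 4, 3, 8, 2, 5, 3, 9, 9, 7, 8, 4, 3] : List ℕ), 1).2] i = i :=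
  Fn.fix_of_rangeOK (Fn.rangeOK_step hm96_5 rfl
    (Fn.rangeOK_step hm96_4 rfl
    (Fn.rangeOK_step hm96_3 rfl
    (Fn.rangeOK_step hm96_2 rfl
    (Fn.rangeOK_step hm96_1 rfl
    (Fn.rangeOK_step hm96_0 rfl
    (Fn.rangeOK_start TT [5, 9, 6, 8, 8, 2, 4, 3, 8, 2, 5, 3, 9, 9, 7, 8, 4, 3] 1 tN)))))))

theorem hfix97 : ∀ i < tN, (Fn.applyW TT (([2, 1, 6, 5, 0, 7, 4, 3, 8, 2, 5, 6, 1, 4, 7, 0, 3, 9] : List ℕ), 1).1)^[(([2, 1, 6, 5, 0, 7, 4, 3, 8, 2, 5, 6, 1, 4, 7, 0, 3, 9] : List ℕ), 1).2] i = i :=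
  Fn.fix_of_rangeOK (Fn.rangeOK_step hm97_5 rfl
    (Fn.rangeOK_step hm97_4 rfl
    (Fn.rangeOK_step hm97_3 rfl
    (Fn.rangeOK_step hm97_2 rfl
    (Fn.rangeOK_step hm97_1 rfl
    (Fn.rangeOK_step hm97_0 rfl
    (Fn.rangeOK_start TT [2, 1, 6, 5, 0, 7, 4, 3, 8, 2, 5, 6, 1, 4, 7, 0, 3, 9] 1 tN)))))))

theorem hfix98 : ∀ i < tN, (Fn.applyW TT (([6, 9, 2, 5, 8, 7, 4, 3, 8, 2, 5, 6, 9, 4, 3, 8, 7, 9] : List ℕ), 1).1)^[(([6, 9, 2, 5, 8, 7, 4, 3, 8, 2, 5, 6, 9, 4, 3, 8, 7, 9] : List ℕ), 1).2] i = i :=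
  Fn.fix_of_rangeOK (Fn.rangeOK_step hm98_5 rfl
    (Fn.rangeOK_step hm98_4 rfl
    (Fn.rangeOK_step hm98_3 rfl
    (Fn.rangeOK_step hm98_2 rfl
    (Fn.rangeOK_step hm98_1 rfl
    (Fn.rangeOK_step hm98_0 rfl
    (Fn.rangeOK_start TT [6, 9, 2, 5, 8, 7, 4, 3, 8, 2, 5, 6, 9, 4, 3, 8, 7, 9] 1 tN)))))))

theorem hfix99 : ∀ i < tN, (Fn.applyW TT (([8, 7, 2, 5, 6, 9, 4, 3, 0, 2, 5, 8, 7, 4, 3, 6, 9, 1] : List ℕ), 1).1)^[(([8, 7, 2, 5, 6, 9, 4, 3, 0, 2, 5, 8, 7, 4, 3, 6, 9, 1] : List ℕ), 1).2] i = i :=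
  Fn.fix_of_rangeOK (Fn.rangeOK_step hm99_5 rfl
    (Fn.rangeOK_step hm99_4 rfl
    (Fn.rangeOK_step hm99_3 rfl
    (Fn.rangeOK_step hm99_2 rfl
    (Fn.rangeOK_step hm99_1 rfl
    (Fn.rangeOK_step hm99_0 rfl
    (Fn.rangeOK_start TT [8, 7, 2, 5, 6, 9, 4, 3, 0, 2, 5, 8, 7, 4, 3, 6, 9, 1] 1 tN)))))))

theorem hfix100 : ∀ i < tN, (Fn.applyW TT (([8, 7, 2, 5, 6, 9, 4, 3, 4, 2, 5, 8, 7, 4, 3, 6, 9, 5] : List ℕ), 1).1)^[(([8, 7, 2, 5, 6, 9, 4, 3, 4, 2, 5, 8, 7, 4, 3, 6, 9, 5] : List ℕ), 1).2] i = i :=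
  Fn.fix_of_rangeOK (Fn.rangeOK_step hm100_5 rfl
    (Fn.rangeOK_step hm100_4 rfl
    (Fn.rangeOK_step hm100_3 rfl
    (Fn.rangeOK_step hm100_2 rfl
    (Fn.rangeOK_step hm100_1 rfl
    (Fn.rangeOK_step hm100_0 rfl
    (Fn.rangeOK_start TT [8, 7, 2, 5, 6, 9, 4, 3, 4, 2, 5, 8, 7, 4, 3, 6, 9, 5] 1 tN)))))))

theorem hfix101 : ∀ i < tN, (Fn.applyW TT (([2, 0, 5, 6, 1, 4, 7, 3, 8, 2, 6, 5, 0, 7, 4, 1, 3, 9] : List ℕ), 1).1)^[(([2, 0, 5, 6, 1, 4, 7, 3, 8, 2, 6, 5, 0, 7, 4, 1, 3, 9] : List ℕ), 1).2] i = i :=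
  Fn.fix_of_rangeOK (Fn.rangeOK_step hm101_5 rfl
    (Fn.rangeOK_step hm101_4 rfl
    (Fn.rangeOK_step hm101_3 rfl
    (Fn.rangeOK_step hm101_2 rfl
    (Fn.rangeOK_step hm101_1 rfl
    (Fn.rangeOK_step hm101_0 rfl
    (Fn.rangeOK_start TT [2, 0, 5, 6, 1, 4, 7, 3, 8, 2, 6, 5, 0, 7, 4, 1, 3, 9] 1 tN)))))))

theorem hfix102 : ∀ i < tN, (Fn.applyW TT (([7, 8, 7, 2, 7, 8, 7, 3, 0, 2, 6, 9, 6, 3, 6, 9, 6, 3] : List ℕ), 1).1)^[(([7, 8, 7, 2, 7, 8, 7, 3, 0, 2, 6, 9, 6, 3, 6, 9, 6, 3] : List ℕ), 1).2] i = i :=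
  Fn.fix_of_rangeOK (Fn.rangeOK_step hm102_5 rfl
    (Fn.rangeOK_step hm102_4 rfl
    (Fn.rangeOK_step hm102_3 rfl
    (Fn.rangeOK_step hm102_2 rfl
    (Fn.rangeOK_step hm102_1 rfl
    (Fn.rangeOK_step hm102_0 rfl
    (Fn.rangeOK_start TT [7, 8, 7, 2, 7, 8, 7, 3, 0, 2, 6, 9, 6, 3, 6, 9, 6, 3] 1 tN)))))))

theorem hfix103 : ∀ i < tN, (Fn.applyW TT (([2, 8, 7, 8, 7, 8, 7, 3, 0, 2, 6, 9, 6, 9, 6, 9, 3, 1] : List ℕ), 1).1)^[(([2, 8, 7, 8, 7, 8, 7, 3, 0, 2, 6, 9, 6, 9, 6, 9, 3, 1] : List ℕ), 1).2] i = i :=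
  Fn.fix_of_rangeOK (Fn.rangeOK_step hm103_5 rfl
    (Fn.rangeOK_step hm103_4 rfl
    (Fn.rangeOK_step hm103_3 rfl
    (Fn.rangeOK_step hm103_2 rfl
    (Fn.rangeOK_step hm103_1 rfl
    (Fn.rangeOK_step hm103_0 rfl
    (Fn.rangeOK_start TT [2, 8, 7, 8, 7, 8, 7, 3, 0, 2, 6, 9, 6, 9, 6, 9, 3, 1] 1 tN)))))))

theorem hfix104 : ∀ i < tN, (Fn.applyW TT (([2, 8, 7, 8, 7, 8, 7, 3, 4, 2, 6, 9, 6, 9, 6, 9, 3, 5] : List ℕ), 1).1)^[(([2, 8, 7, 8, 7, 8, 7, 3, 4, 2, 6, 9, 6, 9, 6, 9, 3, 5] : List ℕ), 1).2] i = i :=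
  Fn.fix_of_rangeOK (Fn.rangeOK_step hm104_5 rfl
    (Fn.rangeOK_step hm104_4 rfl
    (Fn.rangeOK_step hm104_3 rfl
    (Fn.rangeOK_step hm104_2 rfl
    (Fn.rangeOK_step hm104_1 rfl
    (Fn.rangeOK_step hm104_0 rfl
    (Fn.rangeOK_start TT [2, 8, 7, 8, 7, 8, 7, 3, 4, 2, 6, 9, 6, 9, 6, 9, 3, 5] 1 tN)))))))

theorem hfix105 : ∀ i < tN, (Fn.applyW TT (([2, 8, 7, 8, 7, 8, 7, 3, 6, 2, 6, 9, 6, 9, 6, 9, 3, 7] : List ℕ), 1).1)^[(([2, 8, 7, 8, 7, 8, 7, 3, 6, 2, 6, 9, 6, 9, 6, 9, 3, 7] : List ℕ), 1).2] i = i :=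
  Fn.fix_of_rangeOK (Fn.rangeOK_step hm105_5 rfl
    (Fn.rangeOK_step hm105_4 rfl
    (Fn.rangeOK_step hm105_3 rfl
    (Fn.rangeOK_step hm105_2 rfl
    (Fn.rangeOK_step hm105_1 rfl
    (Fn.rangeOK_step hm105_0 rfl
    (Fn.rangeOK_start TT [2, 8, 7, 8, 7, 8, 7, 3, 6, 2, 6, 9, 6, 9, 6, 9, 3, 7] 1 tN)))))))

theorem hfix117 : ∀ i < tN, (Fn.applyW TT (([0, 0, 4, 0, 0, 4, 0, 0, 4, 0, 0, 4, 0, 0, 4, 0, 0, 4, 0, 0, 4, 0, 0, 4, 0, 0, 4, 0, 0, 4, 0, 0, 6, 8, 7, 0, 0, 6, 8, 7, 0, 0, 6, 8, 7, 0, 0, 6, 8, 7, 0, 0, 6, 8, 7, 0, 0, 6, 8, 7, 0, 0, 6, 8, 7, 0, 0, 6, 8, 7] : List ℕ), 1).1)^[(([0, 0, 4, 0, 0, 4, 0, 0, 4, 0, 0, 4, 0, 0, 4, 0, 0, 4, 0, 0, 4, 0, 0, 4, 0, 0, 4, 0, 0, 4, 0, 0, 6, 8, 7, 0, 0, 6, 8, 7, 0, 0, 6, 8, 7, 0, 0, 6, 8, 7, 0, 0, 6, 8, 7, 0, 0,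 6, 8, 7, 0, 0, 6, 8, 7, 0, 0, 6, 8, 7] : List ℕ), 1).2] i = i :=
  Fn.fix_of_rangeOK (Fn.rangeOK_step hm117_20 rfl
    (Fn.rangeOK_step hm117_19 rfl
    (Fn.rangeOK_step hm117_18 rfl
    (Fn.rangeOK_step hm117_17 rfl
    (Fn.rangeOK_step hm117_16 rfl
    (Fn.rangeOK_step hm117_15 rfl
    (Fn.rangeOK_step hm117_14 rfl
    (Fn.rangeOK_step hm117_13 rfl
    (Fn.rangeOK_step hm117_12 rfl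
    (Fn.rangeOK_step hm117_11 rfl
    (Fn.rangeOK_step hm117_10 rfl
    (Fn.rangeOK_step hm117_9 rfl
    (Fn.rangeOK_step hm117_8 rfl
    (Fn.rangeOK_step hm117_7 rfl
    (Fn.rangeOK_step hm117_6 rfl
    (Fn.rangeOK_step hm117_5 rfl
    (Fn.rangeOK_step hm117_4 rfl
    (Fn.rangeOK_step hm117_3 rfl
    (Fn.rangeOK_step hm117_2 rfl
    (Fn.rangeOK_step hm117_1 rfl
    (Fn.rangeOK_step hm117_0 rfl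
    (Fn.rangeOK_start TT [0, 0, 4, 0, 0, 4, 0, 0, 4, 0, 0, 4, 0, 0, 4, 0, 0, 4, 0, 0, 4, 0, 0, 4, 0, 0, 4, 0, 0, 4, 0, 0, 6, 8, 7, 0, 0, 6, 8, 7, 0, 0, 6, 8, 7, 0, 0, 6, 8, 7, 0, 0, 6, 8, 7, 0, 0, 6, 8, 7, 0, 0, 6, 8, 7, 0, 0, 6, 8, 7] 1 tN))))))))))))))))))))))

theorem hfixall : Fn.FixAll TT tN specs :=
  Fn.fixAll_cons (Fn.fix_of_marksK hm0)
    (Fn.fixAll_cons (Fn.fix_of_marksK hm1)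
    (Fn.fixAll_cons (Fn.fix_of_marksK hm2)
    (Fn.fixAll_cons (Fn.fix_of_marksK hm3)
    (Fn.fixAll_cons (Fn.fix_of_marksK hm4)
    (Fn.fixAll_cons hfix5
    (Fn.fixAll_cons hfix6
    (Fn.fixAll_cons hfix7
    (Fn.fixAll_cons hfix8
    (Fn.fixAll_cons hfix9
    (Fn.fixAll_cons hfix10
    (Fn.fixAll_cons hfix11
    (Fn.fixAll_cons hfix12
    (Fn.fixAll_cons hfix13
    (Fn.fixAll_cons hfix14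
    (Fn.fixAll_cons hfix15
    (Fn.fixAll_cons hfix16
    (Fn.fixAll_cons hfix17
    (Fn.fixAll_cons hfix18
    (Fn.fixAll_cons hfix19
    (Fn.fixAll_cons hfix20
    (Fn.fixAll_cons hfix21
    (Fn.fixAll_cons hfix22
    (Fn.fixAll_cons hfix23
    (Fn.fixAll_cons hfix24
    (Fn.fixAll_cons hfix25
    (Fn.fixAll_cons hfix26
    (Fn.fixAll_cons hfix27
    (Fn.fixAll_cons hfix28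
    (Fn.fixAll_cons hfix29
    (Fn.fixAll_cons hfix30
    (Fn.fixAll_cons hfix31
    (Fn.fixAll_cons hfix32
    (Fn.fixAll_cons hfix33
    (Fn.fixAll_cons hfix34
    (Fn.fixAll_cons hfix35
    (Fn.fixAll_cons hfix36
    (Fn.fixAll_cons hfix37
    (Fn.fixAll_cons hfix38
    (Fn.fixAll_cons hfix39
    (Fn.fixAll_cons hfix40
    (Fn.fixAll_cons hfix41
    (Fn.fixAll_cons hfix42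
    (Fn.fixAll_cons hfix43
    (Fn.fixAll_cons hfix44
    (Fn.fixAll_cons hfix45
    (Fn.fixAll_cons hfix46
    (Fn.fixAll_cons hfix47
    (Fn.fixAll_cons hfix48
    (Fn.fixAll_cons hfix49
    (Fn.fixAll_cons hfix50
    (Fn.fixAll_cons hfix51
    (Fn.fixAll_cons hfix52
    (Fn.fixAll_cons hfix53
    (Fn.fixAll_cons hfix54
    (Fn.fixAll_cons hfix55
    (Fn.fixAll_cons hfix56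
    (Fn.fixAll_cons hfix57
    (Fn.fixAll_cons hfix58
    (Fn.fixAll_cons hfix59
    (Fn.fixAll_cons hfix60
    (Fn.fixAll_cons hfix61
    (Fn.fixAll_cons hfix62
    (Fn.fixAll_cons hfix63
    (Fn.fixAll_cons hfix64
    (Fn.fixAll_cons hfix65
    (Fn.fixAll_cons hfix66
    (Fn.fixAll_cons hfix67
    (Fn.fixAll_cons hfix68
    (Fn.fixAll_cons hfix69
    (Fn.fixAll_cons hfix70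
    (Fn.fixAll_cons hfix71
    (Fn.fixAll_cons hfix72
    (Fn.fixAll_cons hfix73
    (Fn.fixAll_cons hfix74
    (Fn.fixAll_cons hfix75
    (Fn.fixAll_cons hfix76
    (Fn.fixAll_cons hfix77
    (Fn.fixAll_cons hfix78
    (Fn.fixAll_cons hfix79
    (Fn.fixAll_cons hfix80
    (Fn.fixAll_cons hfix81
    (Fn.fixAll_cons hfix82
    (Fn.fixAll_cons hfix83
    (Fn.fixAll_cons hfix84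
    (Fn.fixAll_cons hfix85
    (Fn.fixAll_cons hfix86
    (Fn.fixAll_cons hfix87
    (Fn.fixAll_cons hfix88
    (Fn.fixAll_cons hfix89
    (Fn.fixAll_cons hfix90
    (Fn.fixAll_cons hfix91
    (Fn.fixAll_cons hfix92
    (Fn.fixAll_cons hfix93
    (Fn.fixAll_cons hfix94
    (Fn.fixAll_cons hfix95
    (Fn.fixAll_cons hfix96
    (Fn.fixAll_cons hfix97
    (Fn.fixAll_cons hfix98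
    (Fn.fixAll_cons hfix99
    (Fn.fixAll_cons hfix100
    (Fn.fixAll_cons hfix101
    (Fn.fixAll_cons hfix102
    (Fn.fixAll_cons hfix103
    (Fn.fixAll_cons hfix104
    (Fn.fixAll_cons hfix105
    (Fn.fixAll_cons (Fn.fix_of_marksK hm106)
    (Fn.fixAll_cons (Fn.fix_of_marksK hm107)
    (Fn.fixAll_cons (Fn.fix_of_marksK hm108)
    (Fn.fixAll_cons (Fn.fix_of_marksK hm109)
    (Fn.fixAll_cons (Fn.fix_of_marksK hm110)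
    (Fn.fixAll_cons (Fn.fix_of_marksK hm111)
    (Fn.fixAll_cons (Fn.fix_of_marksK hm112)
    (Fn.fixAll_cons (Fn.fix_of_marksK hm113)
    (Fn.fixAll_cons (Fn.fix_of_marksK hm114)
    (Fn.fixAll_cons (Fn.fix_of_marksK hm115)
    (Fn.fixAll_cons (Fn.fix_of_marksK hm116)
    (Fn.fixAll_nil TT tN)))))))))))))))))))))))))))))))))))))))))))))))))))))))))))))))))))))))))))))))))))))))))))))))))))))))))))))))))))))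

theorem hrels : Fn.relsK TT cN baseL = true := by
  rw [hspecs]
  exact Fn.relsK_of_fixAll hfixall

theorem hextra0 : ∀ i < tN, Fn.applyW TT [0, 0, 4, 0, 0, 4, 0, 0, 4, 0, 0, 4, 0, 0, 4, 0, 0, 4, 0, 0, 4, 0, 0, 4, 0, 0, 4, 0, 0, 4, 0, 0, 6, 8, 7, 0, 0, 6, 8, 7, 0, 0, 6, 8, 7, 0, 0, 6, 8, 7, 0, 0, 6, 8, 7, 0, 0, 6, 8, 7, 0, 0, 6, 8, 7, 0, 0, 6, 8, 7] i = i :=
  fun i hi => hfix117 i hi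

end Cfsg.Agent.Lib.Helper12.TCG.SuzQm22880
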